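import Groth.Agent.H25Jac.GoodFamily
import Groth.Agent.H27SymProd.Curve
import Groth.Agent.H12Pic.PicCurve.ExistsTwist

/-!
# Sums of points of a curve and the degree zero classes
-/

set_option autoImplicit false
set_option linter.style.haveILetI false
set_option linter.unusedSectionVars false
set_option maxHeartbeats 1600000
set_option backward.isDefEq.respectTransparency.types false

noncomputable section

universe u

open CategoryTheory CategoryTheory.Limits AlgebraicGeometry Opposite MonoidalCategory CartesianMonoidalCategory MonObj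

namespace Groth.Agent.H25Jac

open Groth.Agent.H17.PullCl Groth.Agent.H12Pic Groth.Agent.H12Pic.PicCurve Groth.Agent.H12Pic.RigPoints
open Groth.Agent.H25Theta (Cls cls pull pullU unitCls pb)
open Groth.Agent.H27SymProd

attribute [local instance] fibreOverField

section data

variable {X S : Scheme.{u}} {f : X ⟶ S} {σ : S ⟶ X} {hσ : σ ≫ f = 𝟙 S}

/-- A commutative group scheme with a universal rigidified class of degree zero whose law is the tensor product. -/
structure JData (f : X ⟶ S) (σ : S ⟶ X) (hσ : σ ≫ f = 𝟙 S) (J : Over S) [GrpObj J] where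
  /-- the universal class -/
  cl : PicF.Cl (PicF.XT f J)
  mem : IsDZ f σ hσ J cl
  univ : ∀ (T : Over S) (c : PicF.Cl (PicF.XT f T)), IsDZ f σ hσ T c →
    ∃! g : T ⟶ J, PicF.pullCl (PicF.XTmap f g) cl = c
  mul : ∀ (T : Over S) (a b : T ⟶ J), pull (PicF.XTmap f (a * b)) (show Cls (PicF.XT f J) from cl) =
    pull (PicF.XTmap f a) (show Cls (PicF.XT f J) from cl) * pull (PicF.XTmap f b) (show Cls (PicF.XT f J) from cl)

variable [IsProper f] [SmoothOfRelativeDimension 1 f] [GeometricallyConnected f]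
  {J : Over S} [GrpObj J] (D : JData f σ hσ J)

/-- The class of a point of the Jacobian. -/
def JData.xU {T : Over S} (a : T ⟶ J) : (Cls (PicF.XT f T))ˣ := H29Jac.unitOf (D.mem.pull a).1

theorem JData.xU_mul {T : Over S} (a b : T ⟶ J) : D.xU (a * b) = D.xU a * D.xU b := Units.ext (D.mul T a b)

theorem JData.xU_one {T : Over S} : D.xU (1 : T ⟶ J) = 1 := by
  have h := D.xU_mul (1 : T ⟶ J) 1
  rw [_root_.one_mul] at h
  exact left_eq_mul.1 h

/-- Points to classes, as a homomorphism. -/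
def JData.xHom (T : Over S) : (T ⟶ J) →* (Cls (PicF.XT f T))ˣ where
  toFun := D.xU
  map_one' := D.xU_one
  map_mul' := D.xU_mul

theorem JData.xU_comp {T T' : Over S} (g : T' ⟶ T) (a : T ⟶ J) :
    pullU (PicF.XTmap f g) (D.xU a) = D.xU (g ≫ a) := Units.ext (by
  show PicF.pullCl (PicF.XTmap f g) (PicF.pullCl _ D.cl) = PicF.pullCl _ D.cl
  rw [← pullCl_comp, ← XTmap_comp])

theorem JData.xU_injective {T : Over S} {a b : T ⟶ J} (h : D.xU a = D.xU b) : a = b :=
  (D.univ T _ (D.mem.pull b)).unique (congrArg Units.val h) rfl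

theorem JData.exists_of_isDZ {T : Over S} (u : (Cls (PicF.XT f T))ˣ) (h : IsDZ f σ hσ T u.1) :
    ∃ a : T ⟶ J, D.xU a = u := by
  obtain ⟨a, ha, -⟩ := D.univ T _ h
  exact ⟨a, Units.ext ha⟩

/-- The Abel map. -/
theorem JData.exists_abel : ∃ aj : Over.mk f ⟶ J, ∀ (T : Over S) (b : T ⟶ Over.mk f),
    D.xU (b ≫ aj) = ptClass f hσ b := by
  obtain ⟨aj, haj⟩ := D.exists_of_isDZ _ ((isDZ_iff_jSub f σ hσ _).1 (ptClass_mem f hσ (𝟙 (Over.mk f))))
  exact ⟨aj, fun T b => by rw [← D.xU_comp, haj, pullU_ptClass, Category.comp_id]⟩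

end data

variable {k : Type u} [Field k] {X : Scheme.{u}} {f : X ⟶ Spec (CommRingCat.of k)}
  {σ : Spec (CommRingCat.of k) ⟶ X} {hσ : σ ≫ f = 𝟙 _}
  [IsProper f] [SmoothOfRelativeDimension 1 f] [GeometricallyConnected f]

/-- The twist by a multiple of the base point. -/
def rho (hσ : σ ≫ f = 𝟙 _) (gn : ℕ) (T : Over (Spec (CommRingCat.of k))) : (Cls (PicF.XT f T))ˣ :=
  H29Ell.norm f σ hσ T (secU f (constPt f hσ T)) ^ gn

theorem pullU_rho (gn : ℕ) {T T' : Over (Spec (CommRingCat.of k))} (g : T' ⟶ T) :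
    pullU (PicF.XTmap f g) (rho hσ gn T) = rho hσ gn T' := by
  rw [rho, rho, map_pow, H29Ell.norm_natural, pullU_constPt]

theorem rho_mem (gn : ℕ) (T : Over (Spec (CommRingCat.of k))) : rho hσ gn T ∈ PicGroup.rigSub f hσ T :=
  pow_mem (H29Jac.norm_mem_rigSub f hσ T _ (isInvertibleCl_idU _ _)) gn

/-- The point of the curve at the `i`-th coordinate of the fibre power. -/
abbrev coord (f : X ⟶ Spec (CommRingCat.of k)) (n : ℕ) (i : Fin n) : powOver f n ⟶ Over.mk f :=
  Over.homMk (WidePullback.π (fun _ : Fin n => f) i) (WidePullback.π_arrow (fun _ : Fin n => f) i)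

theorem irreducibleSpace_powOver : ∀ n : ℕ, IrreducibleSpace ↥(powOver f n).left ∧
    Smooth (powOver f n).hom := by
  haveI : Smooth f := SmoothOfRelativeDimension.smooth 1 f
  intro n
  induction n with
  | zero =>
    haveI : IsIso (powOver f 0).hom := by
      refine ⟨⟨WidePullback.lift (𝟙 _) (fun i => i.elim0) (fun i => i.elim0), ?_, ?_⟩⟩
      · exact WidePullback.hom_ext _ _ _ (fun i => i.elim0) (by
          rw [Category.assoc, WidePullback.lift_base, Category.id_comp, Category.comp_id]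
          rfl)
      · exact WidePullback.lift_base _ _ _ _
    haveI : IrreducibleSpace ↥(Spec (CommRingCat.of k)) :=
      inferInstanceAs (IrreducibleSpace (PrimeSpectrum k))
    exact ⟨(asIso (powOver f 0).hom).hom.homeomorph.irreducibleSpace_iff.2 inferInstance, inferInstance⟩
  | succ n ih =>
    haveI := ih.1
    haveI : Smooth (WidePullback.base (fun _ : Fin n => f)) := ih.2
    haveI : GeometricallyIrreducible f := by
      haveI : GeometricallyIntegral f := geometricallyIntegral_curve f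
      infer_instance
    have hsq := isPullback_restr f n
    haveI : GeometricallyIrreducible (restr f n).left := MorphismProperty.of_isPullback hsq.flip inferInstance
    haveI : Smooth (restr f n).left := MorphismProperty.of_isPullback hsq.flip inferInstance
    refine ⟨GeometricallyIrreducible.irreducibleSpace (restr f n).left (restr f n).left.isOpenMap, ?_⟩
    haveI : Smooth (powOver f n).hom := ih.2
    rw [← Over.w (restr f n)]
    infer_instance

set_option maxHeartbeats 3200000 in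
/-- The birational map with the universal divisor and the characterisation of the good locus. -/
theorem exists_birational_divisor (hX : Curve.IsSmoothProperCurve k X f) {J : Over (Spec (CommRingCat.of k))} [GrpObj J]
    [IsCommMonObj J] (D : JData f σ hσ J) {aj : Over.mk f ⟶ J}
    (haj : ∀ (T : Over (Spec (CommRingCat.of k))) (b : T ⟶ Over.mk f), D.xU (b ≫ aj) = ptClass f hσ b) :
    ∃ (gn : ℕ) (H : Over (Spec (CommRingCat.of k))) (φ : powOver f gn ⟶ H) (ΦH : H ⟶ J) (G : H.left.Opens)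
      (V : J.left.Opens) (h : V.toScheme ⟶ H.left) (I : (PicF.XT f H).IdealSheafData),
      gn = (letI : X.Over (Spec (CommRingCat.of k)) := ⟨f⟩
        Module.finrank k (Coh.HH X (Coh.structureModule X) 1)) ∧
      Smooth H.hom ∧ IsProper H.hom ∧ Surjective φ.left ∧ Flat φ.left ∧ LocallyOfFinitePresentation φ.left ∧
      SGA1.IsQuot (SymProd.permActU f gn) φ.left ∧
      φ ≫ ΦH = ∏ i, coord f gn i ≫ aj ∧
      (G : Set H.left).Nonempty ∧
      h ≫ H.hom = V.ι ≫ J.hom ∧ Set.range h = (G : Set H.left) ∧ IsOpenImmersion h ∧ h ≫ ΦH.left = V.ι ∧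
      BlowUp.IsEffCartierIdeal I ∧ I.comap (PicF.XTmap f φ) = ∏ i, (sec f (coord f gn i)).ker ∧
      (∀ (T : Over (Spec (CommRingCat.of k))) (a : T ⟶ J) (L : (PicF.XT f T).Modules) (hL : PicF.IsInvertible L),
        unitCls hL = D.xU a * (rho hσ gn T)⁻¹ →
          (Set.range a.left ⊆ (V : Set J.left) ↔ IsGood (PicF.XTproj f T) L)) := by
  classical
  obtain ⟨gn, H, Z, G, cH, hI, hZ, hHp, hHs, hgn, hcH, hgood, hinj⟩ := exists_good_family f hX hσ
  haveI : IsLocallyNoetherian X := LocallyOfFiniteType.isLocallyNoetherian f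
  haveI : CompactSpace X := QuasiCompact.compactSpace_of_compactSpace f
  haveI : IsNoetherian X := {}
  haveI : X.IsSeparated := ⟨by rw [← terminal.comp_from f]; infer_instance⟩
  haveI := hX.2.2.1
  obtain ⟨A, hA⟩ := S1551.result X hX.2.2.2
  have hAF : SymProd.IsAF f := fun s T _ => H13Desc.Eff.exists_affine_of_isAmple hA T
  have hrep := representable_of_isAF f hAF
  obtain ⟨φ, hφ, -⟩ := hZ (powOver f gn) (tautObj f gn)
  have hquot := isQuot_classify f hrep gn H Z hZ φ hφ
  obtain ⟨⟨hfin, hfl, hlfp⟩, -⟩ := id (finLocFree_classify f gn (fun e _ => hrep e) H Z hZ φ hφ)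
  have hsurj : Surjective φ.left := ⟨H27Quot.surjective hquot⟩
  haveI := hsurj
  let Pw := powOver f gn
  -- the class of the universal divisor on the fibre power
  obtain ⟨hprod, eprod⟩ := idU_prod (fun i => (sec f (coord f gn i)).ker) (fun i => isEffCartier_sec f _) Finset.univ
  have hcomap : Z.1.comap (PicF.XTmap f φ) = ∏ i, (sec f (coord f gn i)).ker := by
    rw [← H27HilbOne.pull_eq_comap]
    exact hφ
  have hpullI : pullU (PicF.XTmap f φ) (idU Z.1 hI) = ∏ i, secU f (coord f gn i) := by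
    rw [pullU_idU _ hI (hcomap ▸ hprod), idU_congr hcomap _ hprod, eprod]
    rfl
  let uH : (Cls (PicF.XT f H))ˣ := H29Ell.norm f σ hσ H (idU Z.1 hI)⁻¹
  have huH : uH.1 = cH.1 := hcH.symm
  have hsum : pullU (PicF.XTmap f φ) (uH * rho hσ gn H) = D.xU (∏ i, coord f gn i ≫ aj) := by
    rw [show D.xU (∏ i, coord f gn i ≫ aj) = ∏ i, D.xU (coord f gn i ≫ aj) from map_prod (D.xHom _) _ _]
    simp only [haj, ptClass]
    rw [← map_prod, Finset.prod_mul_distrib, Finset.prod_inv_distrib, Finset.prod_const, Finset.card_univ,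
      Fintype.card_fin, map_mul, map_mul, pullU_rho, rho, H29Ell.norm_natural, map_inv, hpullI, map_pow]
  have huHmem : uH * rho hσ gn H ∈ PicGroup.rigSub f hσ H :=
    mul_mem (⟨huH ▸ cH.2.1, huH ▸ cH.2.2⟩) (rho_mem gn H)
  have hDZ : IsDZ f σ hσ H (uH * rho hσ gn H).1 :=
    IsDZ.of_pull φ huHmem.1 huHmem.2 (by
      rw [show PicF.pullCl (PicF.XTmap f φ) (uH * rho hσ gn H).1 = (D.xU (∏ i, coord f gn i ≫ aj)).1 from
        congrArg Units.val hsum]
      exact D.mem.pull _)
  obtain ⟨ΦH, hΦH⟩ := D.exists_of_isDZ _ hDZ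
  have hΦφ : φ ≫ ΦH = ∏ i, coord f gn i ≫ aj := D.xU_injective (by rw [← D.xU_comp, hΦH, hsum])
  -- the good locus of the Jacobian
  have hR : D.xU (𝟙 J) * (rho hσ gn J)⁻¹ ∈ PicGroup.rigSub f hσ J :=
    mul_mem ⟨(D.mem.pull (𝟙 J)).1, (D.mem.pull (𝟙 J)).2.1⟩ (inv_mem (rho_mem gn J))
  obtain ⟨R, hRc, hRi⟩ := id hR.1
  haveI := isProper_XTproj f J
  let V := goodLocus (PicF.XTproj f J) hRi
  let TV : Over (Spec (CommRingCat.of k)) := AbDual.ovr J V.ι
  let ιV : TV ⟶ J := AbDual.ovrHom J V.ι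
  let c : PicF.Rig f σ hσ TV := rigPull f hσ ιV ⟨_, hR.1, hR.2⟩
  haveI := isProper_XTproj f TV
  obtain ⟨h, hhG, hh⟩ := (hgood TV c (pb (PicF.XTmap f ιV) R) (H11Ample.isInvertible_pullback _ hRi)
    (congrArg (PicF.pullCl (PicF.XTmap f ιV)) hRc)).2
    ((isGood_pullback_iff _ hRi (H27HilbOps.isPullback_XTmap f ιV)).2 (by
      show Set.range V.ι ⊆ _
      rw [Scheme.Opens.range_ι]))
  have hhU : pullU (PicF.XTmap f h) uH = D.xU ιV * (rho hσ gn TV)⁻¹ := by
    have h1 : pullU (PicF.XTmap f h) uH = pullU (PicF.XTmap f ιV) (D.xU (𝟙 J) * (rho hσ gn J)⁻¹) := Units.ext (by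
      show PicF.pullCl (PicF.XTmap f h) uH.1 = _
      rw [huH]
      exact congrArg Subtype.val hh)
    rw [h1, map_mul, map_inv, D.xU_comp, pullU_rho, Category.comp_id]
  have hhΦ : h ≫ ΦH = ιV := D.xU_injective (by
    rw [← D.xU_comp, hΦH, map_mul, hhU, pullU_rho, inv_mul_cancel_right])
  -- the good locus of divisors maps into the good locus of the Jacobian
  let TG : Over (Spec (CommRingCat.of k)) := AbDual.ovr H G.ι
  let ιG : TG ⟶ H := AbDual.ovrHom H G.ι
  have hιG : Set.range ιG.left ⊆ (G : Set H.left) := (Scheme.Opens.range_ι G).le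
  have hrange : Set.range (ιG ≫ ΦH).left ⊆ (V : Set J.left) := by
    haveI := isProper_XTproj f TG
    refine (isGood_pullback_iff _ hRi (H27HilbOps.isPullback_XTmap f (ιG ≫ ΦH))).1 ?_
    refine (hgood TG (rigPull f hσ ιG cH) _ (H11Ample.isInvertible_pullback _ hRi) ?_).1 ⟨ιG, hιG, rfl⟩
    show PicF.pullCl _ (PicF.cl R) = PicF.pullCl (PicF.XTmap f ιG) cH.1
    rw [hRc, ← huH]
    refine congrArg Units.val (show pullU (PicF.XTmap f (ιG ≫ ΦH)) (D.xU (𝟙 J) * (rho hσ gn J)⁻¹) =
      pullU (PicF.XTmap f ιG) uH from ?_)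
    rw [map_mul, map_inv, pullU_rho, D.xU_comp, Category.comp_id, ← D.xU_comp, hΦH, map_mul, pullU_rho,
      mul_inv_cancel_right]
  let ψl : G.toScheme ⟶ V.toScheme := IsOpenImmersion.lift V.ι (ιG ≫ ΦH).left (by
    rw [Scheme.Opens.range_ι]; exact hrange)
  have hψ : ψl ≫ V.ι = (ιG ≫ ΦH).left := IsOpenImmersion.lift_fac _ _ _
  let ψ : TG ⟶ TV := Over.homMk ψl (by
    show ψl ≫ V.ι ≫ J.hom = G.ι ≫ H.hom
    rw [reassoc_of% hψ]
    exact Over.w (ιG ≫ ΦH))
  have hψV : ψ ≫ ιV = ιG ≫ ΦH := Over.OverMorphism.ext hψ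
  have hψh : ψ ≫ h = ιG := hinj TG _ _ ((Set.range_comp_subset_range ψ.left h.left).trans hhG) hιG (Subtype.ext (by
    show PicF.pullCl (PicF.XTmap f (ψ ≫ h)) cH.1 = PicF.pullCl (PicF.XTmap f ιG) cH.1
    rw [← huH]
    refine congrArg Units.val (show pullU (PicF.XTmap f (ψ ≫ h)) uH = pullU (PicF.XTmap f ιG) uH from ?_)
    rw [XTmap_comp, ← H25Theta.pullU_pullU, hhU, map_mul, map_inv, D.xU_comp, pullU_rho, hψV, ← D.xU_comp,
      hΦH, map_mul, pullU_rho, mul_inv_cancel_right]))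
  let hG : V.toScheme ⟶ G.toScheme := IsOpenImmersion.lift G.ι h.left (by rw [Scheme.Opens.range_ι]; exact hhG)
  have hfac : hG ≫ G.ι = h.left := IsOpenImmersion.lift_fac _ _ _
  have e1 : ψl ≫ hG = 𝟙 _ := by
    rw [← cancel_mono G.ι, Category.assoc, hfac, Category.id_comp]
    exact congrArg CommaMorphism.left hψh
  have e2 : hG ≫ ψl = 𝟙 _ := by
    rw [← cancel_mono V.ι, Category.assoc, hψ, Category.id_comp]
    show hG ≫ G.ι ≫ ΦH.left = V.ι
    rw [reassoc_of% hfac]
    exact congrArg CommaMorphism.left hhΦ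
  haveI : IsIso hG := ⟨ψl, e2, e1⟩
  have hne : (G : Set H.left).Nonempty := by
    let Ω := AlgebraicClosure k
    let x : Spec (CommRingCat.of Ω) ⟶ Spec (CommRingCat.of k) := Spec.map (CommRingCat.ofHom (algebraMap k Ω))
    let T := Over.mk x
    letI : (PicF.XT f T).Over (Spec (CommRingCat.of Ω)) := fieldPointOver f x
    obtain ⟨h1, h2, h3, h4, h5⟩ := xtPoint_facts f x
    haveI := h1
    haveI := h2
    haveI := h4
    haveI : Smooth (PicF.XT f T ↘ Spec (CommRingCat.of Ω)) := SmoothOfRelativeDimension.smooth 1 _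
    let σ₀ := PicF.secT f σ hσ T
    have hσ₀ : σ₀ ≫ (PicF.XT f T ↘ Spec (CommRingCat.of Ω)) = 𝟙 _ := RigDescent.secT_snd f hσ T
    obtain ⟨N, hN, ⟨eN⟩⟩ := H11Sym.exists_inverse
      (H29Blow.isInvertible_of_isEffCartierIdeal _ (H12Pic.CurveFam.isEffCartierIdeal_section _ σ₀ hσ₀))
    have hsq : IsPullback (𝟙 (PicF.XT f T)) (PicF.XT f T ↘ Spec (CommRingCat.of Ω))
        (PicF.XT f T ↘ Spec (CommRingCat.of Ω)) (Spec.map (CommRingCat.ofHom (algebraMap Ω Ω))) := by
      rw [show CommRingCat.ofHom (algebraMap Ω Ω) = 𝟙 _ from rfl, Spec.map_id]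
      exact IsPullback.of_horiz_isIso ⟨by simp⟩
    obtain ⟨i, hi0, hi1⟩ := exists_twist Ω (PicF.XT f T) ⟨inferInstance, inferInstance, h4, h5⟩ σ₀ hσ₀ N hN eN Ω
      (PicF.XT f T) (𝟙 _) hsq (Coh.structureModule _) (H11Ample.isInvertible_structureModule (X := PicF.XT f T))
    let L := CohB1.tensorMod (Coh.structureModule (PicF.XT f T)) ((Scheme.Modules.pullback (𝟙 _)).obj (twistMod N i))
    have hL : PicF.IsInvertible L := H11Ample.isInvertible_tensor (H11Ample.isInvertible_structureModule (X := _))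
      (H11Ample.isInvertible_pullback _ (isInvertible_twistMod hN i))
    haveI : Subsingleton ↥T.left := inferInstanceAs (Subsingleton (PrimeSpectrum Ω))
    haveI : Nonempty ↥T.left := inferInstanceAs (Nonempty (PrimeSpectrum Ω))
    haveI := isProper_XTproj f T
    have hr : ∀ (p : ℕ) (t : T.left), CohIII.fiberRank (PicF.XTproj f T) L p t =
        Module.finrank Ω (Coh.HH (PicF.XT f T) L p) := fun p t => by
      have h2 := finrank_HH_point (PicF.XTproj f T) hL (K := Ω) (Y' := PicF.XT f T) (𝟙 _) (g' := 𝟙 _)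
        (show IsPullback (𝟙 (PicF.XT f T)) (PicF.XTproj f T) (PicF.XTproj f T) (𝟙 _) from
          IsPullback.of_horiz_isIso ⟨(Category.id_comp _).trans (Category.comp_id _).symm⟩) p
      rw [(H29RR.hhIso (k := Ω) ((Scheme.Modules.pullbackId _).app _) p).finrank_eq] at h2
      rw [Subsingleton.elim t ((𝟙 (Spec (CommRingCat.of Ω)) : _ ⟶ _) (IsLocalRing.closedPoint Ω))]
      exact h2.symm
    have hgoodL : IsGood (PicF.XTproj f T) L := fun t =>
      ⟨(hr 0 t).trans hi0, (hr 1 t).trans (@Module.finrank_zero_of_subsingleton Ω _ _ _ _ _ hi1)⟩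
    obtain ⟨e⟩ := H25Theta.nonempty_iso_of_subsingleton
      (H11Ample.isInvertible_pullback (PicF.secT f σ hσ T) hL)
    obtain ⟨g, hg, -⟩ := (hgood T ⟨PicF.cl L, ⟨L, rfl, hL⟩, Quot.sound ⟨e⟩⟩ L hL rfl).2 hgoodL
    exact ⟨g.left (IsLocalRing.closedPoint Ω), hg ⟨_, rfl⟩⟩
  refine ⟨gn, H, φ, ΦH, G, V, h.left, Z.1, hgn, hHs, hHp, hsurj, hfl, hlfp, hquot, hΦφ, hne, Over.w h, ?_, ?_,
    congrArg CommaMorphism.left hhΦ, hI, hcomap, fun T a L hL hu => ?_⟩
  · rw [← hfac, Scheme.Hom.comp_base, TopCat.coe_comp, Set.range_comp, hG.surjective.range_eq, Set.image_univ,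
      Scheme.Opens.range_ι]
  · rw [← hfac]; infer_instance
  · haveI := isProper_XTproj f T
    obtain ⟨e⟩ := Sep.iso_of_cl_eq (L := pb (PicF.XTmap f a) R) (L' := L) (by
      show PicF.pullCl (PicF.XTmap f a) (PicF.cl R) = PicF.cl L
      rw [hRc]
      refine congrArg Units.val (show pullU (PicF.XTmap f a) (D.xU (𝟙 J) * (rho hσ gn J)⁻¹) = unitCls hL from ?_)
      rw [hu, map_mul, map_inv, pullU_rho, D.xU_comp, Category.comp_id])
    refine Iff.trans (isGood_pullback_iff _ hRi (H27HilbOps.isPullback_XTmap f a)).symm ?_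
    have hr : ∀ p t, CohIII.fiberRank (PicF.XTproj f T) (pb (PicF.XTmap f a) R) p t =
        CohIII.fiberRank (PicF.XTproj f T) L p t := fun p t =>
      (H29RR.hhIso (k := T.left.residueField t) ((Scheme.Modules.pullback _).mapIso e) p).finrank_eq
    exact forall_congr' fun t => Iff.of_eq (congrArg₂ And (congrArg (· = 1) (hr 0 t)) (congrArg (· = 0) (hr 1 t)))

/-- The Hilbert scheme of divisors of degree the genus maps birationally to the Jacobian, compatibly with sums of
points. -/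
theorem exists_birational (hX : Curve.IsSmoothProperCurve k X f) {J : Over (Spec (CommRingCat.of k))} [GrpObj J]
    [IsCommMonObj J] (D : JData f σ hσ J) {aj : Over.mk f ⟶ J}
    (haj : ∀ (T : Over (Spec (CommRingCat.of k))) (b : T ⟶ Over.mk f), D.xU (b ≫ aj) = ptClass f hσ b) :
    ∃ (gn : ℕ) (H : Over (Spec (CommRingCat.of k))) (φ : powOver f gn ⟶ H) (ΦH : H ⟶ J) (G : H.left.Opens)
      (V : J.left.Opens) (h : V.toScheme ⟶ H.left),
      gn = (letI : X.Over (Spec (CommRingCat.of k)) := ⟨f⟩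
        Module.finrank k (Coh.HH X (Coh.structureModule X) 1)) ∧
      Smooth H.hom ∧ IsProper H.hom ∧ Surjective φ.left ∧ Flat φ.left ∧ LocallyOfFinitePresentation φ.left ∧
      SGA1.IsQuot (SymProd.permActU f gn) φ.left ∧
      φ ≫ ΦH = ∏ i, coord f gn i ≫ aj ∧
      (G : Set H.left).Nonempty ∧
      h ≫ H.hom = V.ι ≫ J.hom ∧ Set.range h = (G : Set H.left) ∧ IsOpenImmersion h ∧ h ≫ ΦH.left = V.ι ∧
      (∀ (T : Over (Spec (CommRingCat.of k))) (a : T ⟶ J) (L : (PicF.XT f T).Modules) (hL : PicF.IsInvertible L),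
        unitCls hL = D.xU a * (rho hσ gn T)⁻¹ → Set.range a.left ⊆ (V : Set J.left) →
          IsGood (PicF.XTproj f T) L) := by
  obtain ⟨gn, H, φ, ΦH, G, V, h, -, h1, h2, h3, h4, h5, h6, h7, h8, h9, h10, h11, h12, h13, -, -, h16⟩ :=
    exists_birational_divisor hX D haj
  exact ⟨gn, H, φ, ΦH, G, V, h, h1, h2, h3, h4, h5, h6, h7, h8, h9, h10, h11, h12, h13,
    fun T a L hL hu ha => (h16 T a L hL hu).1 ha⟩

end Groth.Agent.H25Jac
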