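import Groth.Agent.H25Jac.Divisor
import Groth.Agent.H25Jac.AbelSum
import Groth.Agent.H26PicSq.Glue
import Groth.Agent.H12Pic.PicCurve.EllipticPoint
import Groth.Prelude.Def_Jac

/-!
# Coarse Jacobians are represented by the universal degree zero class
-/

set_option autoImplicit false
set_option linter.style.haveILetI false
set_option linter.unusedSectionVars false
set_option maxHeartbeats 1600000
set_option backward.isDefEq.respectTransparency.types false

noncomputable section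

universe u

open CategoryTheory CategoryTheory.Limits AlgebraicGeometry Opposite MonoidalCategory CartesianMonoidalCategory MonObj

namespace Groth.Agent.H25Jac

open Groth.Agent.H17.PullCl Groth.Agent.H12Pic Groth.Agent.H12Pic.PicCurve Groth.Agent.H12Pic.RigPoints
open Groth.Agent.H25Theta (Cls cls pull pullU unitCls pb)

attribute [local instance] fieldPointOver

variable {X S : Scheme.{u}} {f : X ⟶ S} {σ : S ⟶ X} {hσ : σ ≫ f = 𝟙 S}
  [IsProper f] [SmoothOfRelativeDimension 1 f] [GeometricallyConnected f]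

theorem fibDeg_iff_degAt (T : Over S) {L : (PicF.XT f T).Modules} (hL : PicF.IsInvertible L) :
    ModFun.FibDeg f 1 0 T L ↔ ∀ t, degAt f T L t = 0 := by
  constructor
  · intro h t
    let Ω := AlgebraicClosure (T.left.residueField t)
    let τ : Spec (CommRingCat.of Ω) ⟶ T.left :=
      Spec.map (CommRingCat.ofHom (algebraMap (T.left.residueField t) Ω)) ≫ T.left.fromSpecResidueField t
    have hτ : τ (IsLocalRing.closedPoint Ω) = t := by
      show (Spec.map _ ≫ T.left.fromSpecResidueField t) _ = t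
      rw [Scheme.Hom.comp_apply, Scheme.fromSpecResidueField_apply]
    let a : Over.mk (τ ≫ T.hom) ⟶ T := Over.homMk τ rfl
    have hL' := H11Ample.isInvertible_pullback (PicF.XTmap f a) hL
    have h0 : Curv2.deg Ω (PicF.XT f (Over.mk (τ ≫ T.hom))) (pb (PicF.XTmap f a) L) 1 = 0 := h Ω τ
    rw [← degAt_point f (τ ≫ T.hom) hL' (IsLocalRing.closedPoint Ω), degAt_pullback f a hL] at h0
    rw [← hτ]
    exact h0
  · intro h Ω _ _ τ
    let a : Over.mk (τ ≫ T.hom) ⟶ T := Over.homMk τ rfl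
    have hL' := H11Ample.isInvertible_pullback (PicF.XTmap f a) hL
    show Curv2.deg Ω (PicF.XT f (Over.mk (τ ≫ T.hom))) (pb (PicF.XTmap f a) L) 1 = 0
    rw [← degAt_point f (τ ≫ T.hom) hL' (IsLocalRing.closedPoint Ω), degAt_pullback f a hL]
    exact h _

theorem ok_iff (T : Over S) (L : (PicF.XT f T).Modules) :
    (ModFun.PicDeg f 0).ok T L ↔ PicF.IsInvertible L ∧ ∀ t, degAt f T L t = 0 := by
  constructor
  · rintro ⟨⟨-, hr⟩, hd⟩
    have hL := H26PicSq.isInvertible_of_rank_one hr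
    exact ⟨hL, (fibDeg_iff_degAt T hL).1 hd⟩
  · rintro ⟨hL, hd⟩
    exact ⟨⟨trivial, H26PicSq.isFinLocFreeOfRank_one hL⟩, (fibDeg_iff_degAt T hL).2 hd⟩

theorem norm_mem_isDZ {T : Over S} {L : (PicF.XT f T).Modules} (h : (ModFun.PicDeg f 0).ok T L) :
    IsDZ f σ hσ T (H29Ell.norm f σ hσ T (unitCls ((ok_iff T L).1 h).1)).1 :=
  (isDZ_iff_jSub f σ hσ _).1 (H29Ell.norm_mem_jSub f σ hσ T ((ok_iff T L).1 h).1
    ((isPicZeroCl_iff_degAt f T ((ok_iff T L).1 h).1).2 ((ok_iff T L).1 h).2))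

variable {J : Over S} [GrpObj J]

/-- The classifying map of the universal class. -/
def JData.psi (D : JData f σ hσ J) : (ModFun.PicDeg f 0).Hom ⊤ J where
  app T L _ hx := (D.exists_of_isDZ _ (norm_mem_isDZ hx)).choose
  natural {T T'} g L _ _ hx hx' := by
    refine D.xU_injective ?_
    rw [(D.exists_of_isDZ _ (norm_mem_isDZ hx')).choose_spec, ← D.xU_comp,
      (D.exists_of_isDZ _ (norm_mem_isDZ hx)).choose_spec, H29Ell.norm_natural]
    exact congrArg _ (Units.ext rfl)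
  resp {T} L L' _ hx hy h := by
    obtain ⟨M, hM, ⟨e⟩⟩ := h
    refine D.xU_injective ?_
    rw [(D.exists_of_isDZ _ (norm_mem_isDZ hx)).choose_spec, (D.exists_of_isDZ _ (norm_mem_isDZ hy)).choose_spec]
    have e' : unitCls ((ok_iff T L').1 hy).1 = unitCls ((ok_iff T L).1 hx).1 * pullU (PicF.XTproj f T) (unitCls hM) :=
      Units.ext (Quot.sound ⟨e⟩)
    rw [e', map_mul, H29Ell.norm_base, _root_.mul_one]

theorem JData.xU_psi (D : JData f σ hσ J) (T : Over S) (L : (PicF.XT f T).Modules) (hT) (hx) :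
    D.xU (D.psi.app T L hT hx) = H29Ell.norm f σ hσ T (unitCls ((ok_iff T L).1 hx).1) :=
  (D.exists_of_isDZ _ (norm_mem_isDZ hx)).choose_spec

/-- A module representing the universal class. -/
theorem JData.exists_univMod (D : JData f σ hσ J) :
    ∃ (L : (PicF.XT f J).Modules) (hx : (ModFun.PicDeg f 0).ok J L),
      unitCls ((ok_iff J L).1 hx).1 = D.xU (𝟙 J) ∧ D.psi.app J L trivial hx = 𝟙 J := by
  have h := D.mem.pull (𝟙 J)
  obtain ⟨L, hLc, hL⟩ := h.1
  have hx : (ModFun.PicDeg f 0).ok J L :=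
    (ok_iff J L).2 ⟨hL, (hasFibreDegreeZeroCl_cl_iff f J).1 (hLc ▸ h.2.2)⟩
  have hu : unitCls ((ok_iff J L).1 hx).1 = D.xU (𝟙 J) := Units.ext hLc
  refine ⟨L, hx, hu, D.xU_injective ?_⟩
  rw [D.xU_psi, hu, H29Ell.norm_eq_self f σ hσ J (D.xU (𝟙 J)) (Units.ext h.2.1)]

variable {J' : Over S} [GrpObj J'] {ψ : (ModFun.PicDeg f 0).Hom ⊤ J'}

theorem ok_pull {T T' : Over S} (g : T' ⟶ T) {L : (PicF.XT f T).Modules} (h : (ModFun.PicDeg f 0).ok T L) :
    (ModFun.PicDeg f 0).ok T' (pb (PicF.XTmap f g) L) := by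
  obtain ⟨hL, hd⟩ := (ok_iff T L).1 h
  refine (ok_iff T' _).2 ⟨H11Ample.isInvertible_pullback _ hL, fun t => ?_⟩
  rw [degAt_pullback f g hL]
  exact hd _

theorem JData.iso_of_isJacobian (D : JData f σ hσ J) (hJ : Jac.IsJacobian f ⊤ J' ψ) :
    ∃ χ : J' ≅ J, IsMonHom χ.hom ∧ IsMonHom χ.inv ∧
      ∀ (T : Over S) (L : (PicF.XT f T).Modules) hT hx, ψ.app T L hT hx ≫ χ.hom = D.psi.app T L hT hx := by
  obtain ⟨Lu, hxu, hLu, hpsi⟩ := D.exists_univMod
  obtain ⟨χ₀, hχ₀, -⟩ := hJ.coarse.2.1 J D.psi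
  let χ₁ : J ⟶ J' := ψ.app J Lu trivial hxu
  have hfac : ∀ (T : Over S) (L : (PicF.XT f T).Modules) (hT : (⊤ : ObjectProperty (Over S)) T) hx,
      ψ.app T L hT hx = D.psi.app T L hT hx ≫ χ₁ := by
    intro T L hT hx
    let a := D.psi.app T L hT hx
    have hx' := ok_pull a hxu
    refine ((ψ.resp _ L hT hx' hx ?_).symm).trans (ψ.natural a Lu trivial hT hxu hx')
    obtain ⟨hL, -⟩ := (ok_iff T L).1 hx
    refine ⟨_, H11Ample.isInvertible_pullback (PicF.secT f σ hσ T) hL, ?_⟩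
    have h1 : D.xU a = pullU (PicF.XTmap f a) (unitCls ((ok_iff J Lu).1 hxu).1) := by
      rw [hLu, D.xU_comp, Category.comp_id]
    rw [D.xU_psi, H29Ell.norm_apply, div_eq_iff_eq_mul] at h1
    exact ⟨(Sep.iso_of_cl_eq (L := L) (L' := CohB1.tensorMod (pb (PicF.XTmap f a) Lu)
      (pb (PicF.XTproj f T) (pb (PicF.secT f σ hσ T) L))) (congrArg Units.val h1)).some⟩
  have h10 : χ₁ ≫ χ₀ = 𝟙 J := by rw [← hχ₀ J Lu trivial hxu, hpsi]
  have h01 : χ₀ ≫ χ₁ = 𝟙 J' := by
    refine (hJ.coarse.2.1 J' ψ).unique (fun T L hT hx => ?_) (fun T L hT hx => (Category.comp_id _).symm)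
    rw [← Category.assoc, ← hχ₀ T L hT hx, ← hfac T L hT hx]
  haveI hm1 : IsMonHom χ₁ := by
    have hmul : ∀ (T : Over S) (a b : T ⟶ J), (a * b) ≫ χ₁ = (a ≫ χ₁) * (b ≫ χ₁) := by
      intro T a b
      obtain ⟨hLi, hLd⟩ := (ok_iff J Lu).1 hxu
      let La := pb (PicF.XTmap f a) Lu
      let Lb := pb (PicF.XTmap f b) Lu
      let N := CohB1.tensorMod La Lb
      have hLa := H11Ample.isInvertible_pullback (PicF.XTmap f a) hLi
      have hLb := H11Ample.isInvertible_pullback (PicF.XTmap f b) hLi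
      have hu : unitCls (H11Ample.isInvertible_tensor hLa hLb) = D.xU (a * b) := by
        refine Eq.trans (b := pullU (PicF.XTmap f a) (unitCls hLi) * pullU (PicF.XTmap f b) (unitCls hLi))
          (Units.ext rfl) ?_
        rw [show unitCls hLi = D.xU (𝟙 J) from hLu, D.xU_comp, D.xU_comp, Category.comp_id, Category.comp_id,
          D.xU_mul]
      have hxN : (ModFun.PicDeg f 0).ok T N := by
        refine (ok_iff T N).2 ⟨H11Ample.isInvertible_tensor hLa hLb, (hasFibreDegreeZeroCl_cl_iff f T).1 ?_⟩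
        rw [show PicF.cl N = ((D.xU (a * b)).1 : PicF.Cl (PicF.XT f T)) from congrArg Units.val hu]
        exact (D.mem.pull (a * b)).2.2
      have hN : D.psi.app T N trivial hxN = a * b := D.xU_injective (by
        rw [D.xU_psi, hu, H29Ell.norm_eq_self f σ hσ T (D.xU (a * b)) (Units.ext (D.mem.pull (a * b)).2.1)])
      rw [← hN, ← hfac T N trivial hxN,
        hJ.mul T trivial La Lb N (ok_pull a hxu) (ok_pull b hxu) hxN ⟨Iso.refl _⟩]
      exact congrArg₂ (· * ·) (ψ.natural a Lu trivial trivial hxu (ok_pull a hxu))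
        (ψ.natural b Lu trivial trivial hxu (ok_pull b hxu))
    refine ⟨?_, ?_⟩
    · have h1 := hmul (𝟙_ _) 1 1
      rw [_root_.one_mul] at h1
      have h2 := left_eq_mul.1 h1
      rwa [Hom.one_def, toUnit_unique (toUnit _) (𝟙 _), Category.id_comp, Hom.one_def,
        toUnit_unique (toUnit _) (𝟙 _), Category.id_comp] at h2
    · have h1 := hmul (J ⊗ J) (fst J J) (snd J J)
      rwa [Hom.mul_def, lift_fst_snd, Category.id_comp, Hom.mul_def,
        show lift (fst J J ≫ χ₁) (snd J J ≫ χ₁) = MonoidalCategory.tensorHom χ₁ χ₁ by ext <;> simp] at h1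
  let e : J' ≅ J := ⟨χ₀, χ₁, h01, h10⟩
  haveI : IsMonHom e.inv := hm1
  refine ⟨e, ?_, hm1, fun T L hT hx => (hχ₀ T L hT hx).symm⟩
  haveI : IsMonHom e.symm.hom := hm1
  exact inferInstanceAs (IsMonHom e.symm.inv)

omit [IsProper f] [SmoothOfRelativeDimension 1 f] [GeometricallyConnected f] in
theorem sec_id : sec f (𝟙 (Over.mk f)) = pullback.diagonal f :=
  (eq_sec f (𝟙 (Over.mk f)) (pullback.diagonal f) (pullback.diagonal_snd f) (pullback.diagonal_fst f)).symm

/-- The Abel map of a coarse Jacobian corresponds to the tautological one. -/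
theorem JData.psi_ajFamily (D : JData f σ hσ J) {aj : Over.mk f ⟶ J}
    (haj : ∀ (T : Over S) (b : T ⟶ Over.mk f), D.xU (b ≫ aj) = ptClass f hσ b)
    {L : (PicF.XT f (Over.mk f)).Modules} (hL : Jac.IsAJFamilyAt f σ L) (hx) :
    D.psi.app (Over.mk f) L trivial hx = aj := by
  obtain ⟨hLi, ⟨e⟩⟩ := hL
  let T := Over.mk f
  let c₁ := constPt f hσ (𝟙_ (Over S))
  haveI : IsIso (pullback.fst f (𝟙_ (Over S)).hom) := by
    haveI : IsIso (𝟙_ (Over S)).hom := inferInstanceAs (IsIso (𝟙 S))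
    infer_instance
  let g : PicF.XT f (𝟙_ (Over S)) ⟶ X := pullback.fst f (𝟙_ (Over S)).hom
  haveI : IsClosedImmersion (σ ≫ f) := by rw [hσ]; infer_instance
  have hsq : IsPullback g (PicF.XTproj f (𝟙_ (Over S))) f (𝟙 S) :=
    IsPullback.of_hasPullback f (𝟙_ (Over S)).hom
  have hsecg : sec f c₁ ≫ g = 𝟙 S ≫ σ := sec_fst f c₁
  have hk : σ.ker.comap g = (sec f c₁).ker := comap_ker_lift hsq σ hσ (sec f c₁) (sec_proj f c₁) hsecg
  have hσe : BlowUp.IsEffCartierIdeal σ.ker := H12Pic.CurveFam.isEffCartierIdeal_section f σ hσ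
  have hc : secU f (constPt f hσ T) = pullU (pullback.fst f f) (unitCls (H29Blow.isInvertible_of_isEffCartierIdeal _ hσe)) := by
    rw [← comp_constPt f hσ (toUnit T), ← pullU_secU]
    have h2 : pullU g (idU σ.ker hσe) = secU f c₁ := by
      rw [pullU_idU g hσe (hk ▸ isEffCartier_sec f c₁), idU_congr hk _ (isEffCartier_sec f c₁)]
      rfl
    rw [← h2, H25Theta.pullU_pullU]
    exact congrArg (fun m => pullU m (idU σ.ker hσe)) (XTmap_fst f (toUnit T))
  have hu : unitCls ((ok_iff T L).1 hx).1 * secU f (𝟙 T) = secU f (constPt f hσ T) := by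
    rw [hc]
    refine Units.ext ?_
    show cls L * (idU (sec f (𝟙 T)).ker _).1 = _
    rw [idU_congr (congrArg Scheme.Hom.ker (sec_id (f := f))) _ (sec_id (f := f) ▸ isEffCartier_sec f (𝟙 T))]
    exact Quot.sound ⟨e⟩
  refine D.xU_injective ?_
  have h2 := haj T (𝟙 T)
  rw [Category.id_comp] at h2
  rw [D.xU_psi, h2, ptClass, ← hu, mul_comm (secU f (𝟙 T))⁻¹, mul_inv_cancel_right]

end Groth.Agent.H25Jac
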