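import Groth.Agent.H29Jac.PicZero
import Groth.Agent.H12Pic.FieldDescent
import Groth.Agent.H13Desc.SchDD

/-!
# Representing the degree zero rigidified classes over a scheme over the base
-/

set_option autoImplicit false
set_option linter.style.haveILetI false
set_option linter.unusedSectionVars false
set_option backward.isDefEq.respectTransparency.types false

noncomputable section

universe u

open CategoryTheory CategoryTheory.Limits AlgebraicGeometry Opposite

namespace Groth.Agent.H25Jac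

open Groth.Agent.H17.PullCl Groth.Agent.H12Pic Groth.Agent.H12Pic.PicCurve
open Groth.Agent.H25Theta (Cls cls pb)

attribute [local instance] fibreOverField

variable {X S : Scheme.{u}} (f : X ⟶ S) (σ : S ⟶ X) (hσ : σ ≫ f = 𝟙 S)

/-- Rigidified classes of degree zero on the fibres. -/
def IsDZ (T : Over S) (c : PicF.Cl (PicF.XT f T)) : Prop :=
  PicF.IsInvertibleCl c ∧ PicF.IsTrivialCl (PicF.pullCl (PicF.secT f σ hσ T) c) ∧
    FGA.HasFibreDegreeZeroCl f T c

variable {f σ hσ} in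
/-- The rigidified class underlying a rigidified class of degree zero. -/
def IsDZ.rig {T : Over S} {c : PicF.Cl (PicF.XT f T)} (h : IsDZ f σ hσ T c) : PicF.Rig f σ hσ T :=
  ⟨c, h.1, h.2.1⟩

/-- A scheme over `U` seen over the base. -/
abbrev dn (U : Over S) (Z : Over U.left) : Over S := Over.mk (Z.hom ≫ U.hom)

/-- Its structure morphism. -/
abbrev dnq (U : Over S) (Z : Over U.left) : dn U Z ⟶ U := Over.homMk Z.hom rfl

/-- `z` is universal among the rigidified classes of degree zero on schemes over `U`. -/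
structure Rep (U : Over S) (Z : Over U.left) (z : PicF.Cl (PicF.XT f (dn U Z))) : Prop where
  mem : IsDZ f σ hσ (dn U Z) z
  univ : ∀ (T : Over S) (r : T ⟶ U) (c : PicF.Cl (PicF.XT f T)), IsDZ f σ hσ T c →
    ∃! g : T ⟶ dn U Z, g ≫ dnq U Z = r ∧ PicF.pullCl (PicF.XTmap f g) z = c

variable {f σ hσ} in
theorem Rep.hom_ext {U : Over S} {Z : Over U.left} {z : PicF.Cl (PicF.XT f (dn U Z))}
    (h : Rep f σ hσ U Z z) {T : Over S} {a b : T ⟶ dn U Z} (hq : a ≫ dnq U Z = b ≫ dnq U Z)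
    (hp : IsDZ f σ hσ T (PicF.pullCl (PicF.XTmap f b) z))
    (he : PicF.pullCl (PicF.XTmap f a) z = PicF.pullCl (PicF.XTmap f b) z) : a = b :=
  (h.univ T (b ≫ dnq U Z) _ hp).unique ⟨hq, he⟩ ⟨rfl, rfl⟩

variable [IsProper f] [SmoothOfRelativeDimension 1 f] [GeometricallyConnected f]

/-- The two notions of degree on a fibre agree. -/
theorem degAt_eq (T : Over S) (L : (PicF.XT f T).Modules) (t : T.left) :
    degAt f T L t =
      FGA.eulerCharLE (T.left.residueField t) (FGA.fibreAt f T t).left (FGA.restrFibre f T t L) 1 -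
      FGA.eulerCharLE (T.left.residueField t) (FGA.fibreAt f T t).left (Coh.structureModule _) 1 := by
  have hO : rankDiff (PicF.XTproj f T) (Coh.structureModule _) t =
      FGA.eulerCharLE (T.left.residueField t) (FGA.fibreAt f T t).left (Coh.structureModule _) 1 := by
    rw [rankDiff, FGA.eulerCharLE, Finset.sum_range_succ, Finset.sum_range_one, pow_zero, one_mul, pow_one,
      neg_one_mul, ← sub_eq_add_neg]
    have e : CohIII.fiberMod (PicF.XTproj f T) (Coh.structureModule _) t ≅ Coh.structureModule _ :=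
      H16Derived.KFlat.Stalk.structurePullbackIso _
    exact congrArg₂ (fun a b : ℕ => (a : ℤ) - b)
      ((H29RR.hhIso (k := T.left.residueField t) e 0).finrank_eq)
      ((H29RR.hhIso (k := T.left.residueField t) e 1).finrank_eq)
  rw [degAt, hO, rankDiff]
  simp only [FGA.eulerCharLE, Finset.sum_range_succ, Finset.sum_range_one, Finset.sum_range_zero, zero_add,
    pow_zero, one_mul, pow_one, neg_one_mul, ← sub_eq_add_neg]
  rfl

theorem hasFibreDegreeZero_iff (T : Over S) (L : (PicF.XT f T).Modules) :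
    FGA.HasFibreDegreeZero f T L ↔ ∀ t, degAt f T L t = 0 :=
  forall_congr' fun t => by rw [degAt_eq, sub_eq_zero]

theorem hasFibreDegreeZeroCl_cl_iff (T : Over S) {L : (PicF.XT f T).Modules} :
    FGA.HasFibreDegreeZeroCl f T (PicF.cl L) ↔ ∀ t, degAt f T L t = 0 := by
  constructor
  · rintro ⟨M, hM, h⟩ t
    obtain ⟨e⟩ := Sep.iso_of_cl_eq hM
    rw [← degAt_congr f e]
    exact (hasFibreDegreeZero_iff f T M).1 h t
  · exact fun h => ⟨L, rfl, (hasFibreDegreeZero_iff f T L).2 h⟩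

theorem isDZ_iff_jSub {T : Over S} (u : (Cls (PicF.XT f T))ˣ) :
    u ∈ H29Ell.jSub f σ hσ T ↔ IsDZ f σ hσ T u.1 := by
  have h : ∀ L : (PicF.XT f T).Modules, PicF.IsInvertible L →
      (AbDual.IsPicZeroCl f T (PicF.cl L) ↔ FGA.HasFibreDegreeZeroCl f T (PicF.cl L)) := fun L hL => by
    rw [isPicZeroCl_iff_degAt f T hL, hasFibreDegreeZeroCl_cl_iff]
  constructor
  · rintro ⟨⟨⟨L, hLu, hL⟩, ht⟩, h0⟩
    refine ⟨⟨L, hLu, hL⟩, ht, ?_⟩
    rw [← show PicF.cl L = (u.1 : PicF.Cl (PicF.XT f T)) from hLu] at h0 ⊢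
    exact (h L hL).1 h0
  · rintro ⟨⟨L, hLu, hL⟩, ht, h0⟩
    refine ⟨⟨⟨L, hLu, hL⟩, ht⟩, ?_⟩
    rw [← show PicF.cl L = (u.1 : PicF.Cl (PicF.XT f T)) from hLu] at h0 ⊢
    exact (h L hL).2 h0

variable {f σ hσ}

/-- Pullback of a rigidified class of degree zero. -/
theorem IsDZ.pull {T T' : Over S} (g : T' ⟶ T) {c : PicF.Cl (PicF.XT f T)} (h : IsDZ f σ hσ T c) :
    IsDZ f σ hσ T' (PicF.pullCl (PicF.XTmap f g) c) := by
  refine ⟨isInvertibleCl_pullCl _ h.1, (RigPoints.rigPull f hσ g h.rig).2.2, ?_⟩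
  obtain ⟨L, rfl, hL⟩ := h.1
  refine (hasFibreDegreeZeroCl_cl_iff f T' (L := pb (PicF.XTmap f g) L)).2 fun t => ?_
  rw [degAt_pullback f g hL]
  exact (hasFibreDegreeZeroCl_cl_iff f T).1 h.2.2 _

/-- Degree zero is detected on a surjective base change. -/
theorem IsDZ.of_pull {T T' : Over S} (g : T' ⟶ T) [Surjective g.left] {c : PicF.Cl (PicF.XT f T)}
    (hc : PicF.IsInvertibleCl c) (ht : PicF.IsTrivialCl (PicF.pullCl (PicF.secT f σ hσ T) c))
    (h : IsDZ f σ hσ T' (PicF.pullCl (PicF.XTmap f g) c)) : IsDZ f σ hσ T c := by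
  refine ⟨hc, ht, ?_⟩
  obtain ⟨L, rfl, hL⟩ := hc
  refine (hasFibreDegreeZeroCl_cl_iff f T).2 fun t => ?_
  obtain ⟨t', rfl⟩ := g.left.surjective t
  rw [← degAt_pullback f g hL]
  exact (hasFibreDegreeZeroCl_cl_iff f T' (L := pb (PicF.XTmap f g) L)).1 h.2.2 t'

theorem Rep.hom_ext' {U : Over S} {Z : Over U.left} {z : PicF.Cl (PicF.XT f (dn U Z))}
    (h : Rep f σ hσ U Z z) {T : Over S} {a b : T ⟶ dn U Z} (hq : a ≫ dnq U Z = b ≫ dnq U Z)
    (he : PicF.pullCl (PicF.XTmap f a) z = PicF.pullCl (PicF.XTmap f b) z) : a = b :=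
  h.hom_ext hq (h.mem.pull b) he

omit [IsProper f] [SmoothOfRelativeDimension 1 f] [GeometricallyConnected f]

variable (ha : ∀ (T : Over S) (U : T.left.Opens), IsIso ((PicF.XTproj f T).app U))

include ha in
/-- A rigidified class is determined by its restriction to a faithfully flat quasi-compact cover. -/
theorem eq_of_fpqc (T : Over S) {U : Scheme.{u}} (u : U ⟶ T.left) [Flat u] [QuasiCompact u] [Surjective u]
    [QuasiCompact f] [QuasiSeparated f]
    (c d : PicF.Rig f σ hσ T)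
    (h : PicF.pullCl (PicF.XTmap f (AbDual.ovrHom T u)) c.1 = PicF.pullCl (PicF.XTmap f (AbDual.ovrHom T u)) d.1) :
    c = d := by
  obtain ⟨_, ⟨L₁, rfl, h₁⟩, r₁⟩ := c
  obtain ⟨_, ⟨L₂, rfl, h₂⟩, r₂⟩ := d
  refine Subtype.ext (Quot.sound ?_)
  let fT := pullback.snd f T.hom
  have hb : ∀ V, Function.Bijective (fT.app V) := fun V => by
    haveI := ha T V
    exact ConcreteCategory.bijective_of_isIso ((PicF.XTproj f T).app V)
  obtain ⟨M, hM, ⟨e⟩⟩ := H11Sym.exists_inverse h₂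
  have hLM := H11Ample.isInvertible_tensor h₁ hM
  obtain ⟨-, hε, -⟩ := H23Para.invertible_and_counit_of_trivial fT hb u _ hLM
    ((Sep.tensor_trivial_iff _ h₁ h₂ hM e).2 ((Sep.pullCl_eq_iff f T u L₁ L₂).1 h))
  let N := (Scheme.Modules.pushforward fT).obj (CohB1.tensorMod L₁ M)
  let φ : (Scheme.Modules.pullback fT).obj N ≅ CohB1.tensorMod L₁ M :=
    @asIso _ _ _ _ ((Scheme.Modules.pullbackPushforwardAdjunction fT).counit.app (CohB1.tensorMod L₁ M)) hε
  obtain ⟨r⟩ := Sep.iso_of_cl_eq r₁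
  obtain ⟨r'⟩ := Sep.iso_of_cl_eq r₂
  obtain ⟨τ⟩ := (Sep.tensor_trivial_iff (PicF.secT f σ hσ T) h₁ h₂ hM e).2 ⟨r ≪≫ r'.symm⟩
  obtain ⟨ν⟩ := RigDescent.nonempty_section_pullback fT (PicF.secT f σ hσ T) (RigDescent.secT_snd f hσ T) N
  let νO : N ≅ Coh.structureModule T.left :=
    ν.symm ≪≫ (Scheme.Modules.pullback (PicF.secT f σ hσ T)).mapIso φ ≪≫ τ
  exact H25Theta.cancel_right hM ⟨φ.symm ≪≫ (Scheme.Modules.pullback fT).mapIso νO ≪≫
    PicLoc.pullbackStructureIso fT ≪≫ e.symm ≪≫ H10Coh.Tw.commIso M L₂⟩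

variable [IsProper f] [SmoothOfRelativeDimension 1 f] [GeometricallyConnected f]

include ha in
/-- Universality descends along a faithfully flat quasi-compact morphism. -/
theorem Rep.descend {U U' : Over S} (p : U' ⟶ U) [Flat p.left] [Surjective p.left] [QuasiCompact p.left]
    (Z : Over U.left) {z : PicF.Cl (PicF.XT f (dn U Z))} (hz : IsDZ f σ hσ (dn U Z) z)
    (Z' : Over U'.left) (m : dn U' Z' ⟶ dn U Z) (hm : IsPullback m.left Z'.hom Z.hom p.left)
    (h : Rep f σ hσ U' Z' (PicF.pullCl (PicF.XTmap f m) z)) : Rep f σ hσ U Z z := by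
  refine ⟨hz, fun T r c hc => ?_⟩
  let π := pullback.fst r.left p.left
  let T' := AbDual.ovr T π
  let πT : T' ⟶ T := AbDual.ovrHom T π
  have hw : pullback.snd r.left p.left ≫ U'.hom = π ≫ T.hom := by
    rw [← Over.w p, ← pullback.condition_assoc, Over.w r]
  let r' : T' ⟶ U' := Over.homMk (pullback.snd r.left p.left) hw
  have hr' : r' ≫ p = πT ≫ r := Over.OverMorphism.ext pullback.condition.symm
  obtain ⟨g', ⟨hg'q, hg'z⟩, -⟩ := h.univ T' r' _ (hc.pull πT)
  have hmq : m ≫ dnq U Z = dnq U' Z' ≫ p := Over.OverMorphism.ext hm.w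
  have hgmz : PicF.pullCl (PicF.XTmap f (g' ≫ m)) z = PicF.pullCl (PicF.XTmap f πT) c := by
    rw [XTmap_comp, pullCl_comp, hg'z]
  have hgmq : (g' ≫ m) ≫ dnq U Z = πT ≫ r := by
    rw [Category.assoc, hmq, ← Category.assoc, hg'q, hr']
  have heq : ∀ {W : Scheme.{u}} (a b : W ⟶ T'.left), a ≫ π = b ≫ π →
      a ≫ (g' ≫ m).left = b ≫ (g' ≫ m).left := by
    intro W a b hab
    let A : Over.mk (a ≫ T'.hom) ⟶ T' := Over.homMk a rfl
    let B : Over.mk (a ≫ T'.hom) ⟶ T' := Over.homMk b (by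
      show b ≫ π ≫ T.hom = a ≫ π ≫ T.hom
      rw [reassoc_of% hab])
    have hAB : A ≫ πT = B ≫ πT := Over.OverMorphism.ext hab
    have hw' : (B ≫ g' ≫ m).left ≫ Z.hom = (A ≫ r').left ≫ p.left :=
      congrArg CommaMorphism.left (show B ≫ (g' ≫ m) ≫ dnq U Z = A ≫ r' ≫ p by
        rw [hgmq, hr', ← Category.assoc, ← Category.assoc, hAB])
    let α : Over.mk (a ≫ T'.hom) ⟶ dn U' Z' := Over.homMk (hm.lift _ _ hw') (by
      show hm.lift _ _ hw' ≫ Z'.hom ≫ U'.hom = _
      rw [hm.lift_snd_assoc]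
      exact Over.w (A ≫ r'))
    have hαm : α ≫ m = B ≫ g' ≫ m := Over.OverMorphism.ext (hm.lift_fst _ _ hw')
    have hαq : α ≫ dnq U' Z' = A ≫ r' := Over.OverMorphism.ext (hm.lift_snd _ _ hw')
    have : α = A ≫ g' := h.hom_ext' (by rw [hαq, Category.assoc, hg'q]) (by
      rw [← pullCl_comp, ← XTmap_comp, hαm, ← pullCl_comp, ← XTmap_comp, Category.assoc, XTmap_comp, pullCl_comp,
        hgmz, XTmap_comp, pullCl_comp (PicF.XTmap f A), hgmz, ← pullCl_comp, ← XTmap_comp, ← hAB, XTmap_comp,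
        pullCl_comp])
    have := congrArg CommaMorphism.left (show A ≫ g' ≫ m = B ≫ g' ≫ m by
      rw [← hαm, this, Category.assoc])
    exact this
  let gl : T.left ⟶ (dn U Z).left := EffectiveEpi.desc π (g' ≫ m).left fun a b hab => heq a b hab
  have hfac : π ≫ gl = (g' ≫ m).left := EffectiveEpi.fac π _ _
  haveI : Epi π := Flat.epi_of_flat_of_surjective π
  have hglq : gl ≫ Z.hom = r.left := by
    rw [← cancel_epi π, reassoc_of% hfac]
    exact congrArg CommaMorphism.left hgmq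
  let g : T ⟶ dn U Z := Over.homMk gl (by
    show gl ≫ Z.hom ≫ U.hom = T.hom
    rw [reassoc_of% hglq, Over.w r])
  have hπg : πT ≫ g = g' ≫ m := Over.OverMorphism.ext hfac
  refine ⟨g, ⟨Over.OverMorphism.ext hglq, ?_⟩, fun g₁ ⟨hq₁, hz₁⟩ => ?_⟩
  · refine congrArg Subtype.val (eq_of_fpqc ha T π (hz.pull g).rig hc.rig ?_)
    show PicF.pullCl (PicF.XTmap f πT) _ = PicF.pullCl (PicF.XTmap f πT) c
    show PicF.pullCl (PicF.XTmap f πT) (PicF.pullCl (PicF.XTmap f g) z) = _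
    rw [← pullCl_comp, ← XTmap_comp, hπg, hgmz]
  · refine Over.OverMorphism.ext ((cancel_epi π).1 ?_)
    show π ≫ g₁.left = π ≫ gl
    rw [hfac]
    have hw₁ : (πT ≫ g₁).left ≫ Z.hom = r'.left ≫ p.left :=
      congrArg CommaMorphism.left (show πT ≫ g₁ ≫ dnq U Z = r' ≫ p by rw [hq₁, hr'])
    let α : T' ⟶ dn U' Z' := Over.homMk (hm.lift _ _ hw₁) (by
      show hm.lift _ _ hw₁ ≫ Z'.hom ≫ U'.hom = _
      rw [hm.lift_snd_assoc]
      exact Over.w r')
    have hαm : α ≫ m = πT ≫ g₁ := Over.OverMorphism.ext (hm.lift_fst _ _ hw₁)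
    have hαq : α ≫ dnq U' Z' = r' := Over.OverMorphism.ext (hm.lift_snd _ _ hw₁)
    have : α = g' := h.hom_ext' (by rw [hαq, hg'q]) (by
      rw [← pullCl_comp, ← XTmap_comp, hαm, XTmap_comp, pullCl_comp, hz₁, hg'z])
    show (πT ≫ g₁).left = _
    rw [← hαm, this]

end Groth.Agent.H25Jac
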