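import Groth.Agent.H25Jac.AbelSum
import Groth.Agent.H25Jac.Coarse
import Groth.Agent.H25Jac.Functor
import Groth.Agent.H12Pic.PicCurve.AbelStage
import Groth.Agent.H28Vert.IdealProd
import Groth.Agent.H29Ell.PicGroup

/-!
# Existence of Abel families at a section
-/

set_option autoImplicit false
set_option linter.style.haveILetI false
set_option linter.unusedSectionVars false
set_option maxHeartbeats 800000
set_option backward.isDefEq.respectTransparency.types false

noncomputable section

universe u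

open CategoryTheory CategoryTheory.Limits AlgebraicGeometry Opposite MonoidalCategory CartesianMonoidalCategory

namespace Groth.Agent.H25Jac

open Groth.Agent.H17.PullCl Groth.Agent.H12Pic Groth.Agent.H12Pic.PicCurve
open Groth.Agent.H25Theta (Cls cls pullU unitCls pb)

variable {X S : Scheme.{u}} (f : X ⟶ S) [IsProper f] [SmoothOfRelativeDimension 1 f] [GeometricallyConnected f]
  {σ : S ⟶ X} (hσ : σ ≫ f = 𝟙 S)

/-- The difference of the constant point and a point has degree zero. -/
theorem degAt_sub_point {T : Over S} (b : T ⟶ Over.mk f) {N : (PicF.XT f T).Modules} (hN : PicF.IsInvertible N)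
    (eN : CohB1.tensorMod N (ClSub.idealMod (sec f b).ker) ≅ Coh.structureModule _) :
    ∀ t, degAt f T (CohB1.tensorMod N (ClSub.idealMod (sec f (constPt f hσ T)).ker)) t = 0 := by
  have hinv := isInvertible_sec f b
  have hI := isInvertible_sec f (constPt f hσ T)
  refine fun t => ?_
  haveI := isProper_XTproj f T
  let Ω := AlgebraicClosure (T.left.residueField t)
  let τ : Spec (CommRingCat.of Ω) ⟶ T.left :=
    Spec.map (CommRingCat.ofHom (algebraMap (T.left.residueField t) Ω)) ≫ T.left.fromSpecResidueField t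
  have hτ : τ (IsLocalRing.closedPoint Ω) = t := by
    show (Spec.map _ ≫ T.left.fromSpecResidueField t) _ = t
    rw [Scheme.Hom.comp_apply, Scheme.fromSpecResidueField_apply]
  let x := τ ≫ T.hom
  let a : Over.mk x ⟶ T := Over.homMk τ rfl
  letI : (PicF.XT f (Over.mk x)).Over (Spec (CommRingCat.of Ω)) := fieldPointOver f x
  have hM := H11Ample.isInvertible_tensor hN hI
  have hM' := H11Ample.isInvertible_pullback (PicF.XTmap f a) hM
  rw [← hτ, show τ (IsLocalRing.closedPoint Ω) = a.left (IsLocalRing.closedPoint Ω) from rfl,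
    ← degAt_pullback f a hM, degAt_point f x hM']
  obtain ⟨_, _, _, _, hd⟩ := xtPoint_facts f x
  haveI := H29RR.isNoetherian_of_proper (k := Ω) (X := PicF.XT f (Over.mk x))
  obtain ⟨e1⟩ := pullback_sec f a b
  obtain ⟨e2⟩ := pullback_sec f a (constPt f hσ T)
  have hN' : PicF.IsInvertible (pb (PicF.XTmap f a) N) := H11Ample.isInvertible_pullback _ hN
  have hone : Curv2.deg Ω (PicF.XT f (Over.mk x)) (pb (PicF.XTmap f a) N) 1 = 1 := by
    have h := H29RR.deg_congr (k := Ω) ((H25Theta.pT (PicF.XTmap f a) N _).symm ≪≫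
      (Scheme.Modules.pullback _).mapIso eN ≪≫ H25Theta.pO _)
    rw [H29RR.deg_tensor hd.le hN' (H11Ample.isInvertible_pullback _ hinv), H29RR.deg_structureModule,
      H29RR.deg_congr (k := Ω) e1, deg_ideal_sec] at h
    omega
  rw [H29RR.deg_congr (k := Ω) (H25Theta.pT (PicF.XTmap f a) N _),
    H29RR.deg_tensor hd.le hN' (H11Ample.isInvertible_pullback _ hI), hone, H29RR.deg_congr (k := Ω) e2, deg_ideal_sec]
  rfl

include hσ in
/-- An Abel family at a section exists. -/
theorem exists_ajFamilyAt : ∃ (L : (PicF.XT f (Over.mk f)).Modules),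
    Jac.IsAJFamilyAt f σ L ∧ (ModFun.PicDeg f 0).ok (Over.mk f) L := by
  let T := Over.mk f
  obtain ⟨N, hN, ⟨eN⟩⟩ := H11Sym.exists_inverse (isInvertible_sec f (𝟙 T))
  have hI := isInvertible_sec f (constPt f hσ T)
  refine ⟨_, ⟨H11Ample.isInvertible_tensor hN hI, ?_⟩,
    (ok_iff T _).2 ⟨H11Ample.isInvertible_tensor hN hI, degAt_sub_point f hσ (𝟙 T) hN eN⟩⟩
  let c₁ := constPt f hσ (𝟙_ (Over S))
  haveI : IsIso (pullback.fst f (𝟙_ (Over S)).hom) := by
    haveI : IsIso (𝟙_ (Over S)).hom := inferInstanceAs (IsIso (𝟙 S))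
    infer_instance
  let g : PicF.XT f (𝟙_ (Over S)) ⟶ X := pullback.fst f (𝟙_ (Over S)).hom
  haveI : IsClosedImmersion (σ ≫ f) := by rw [hσ]; infer_instance
  have hsq : IsPullback g (PicF.XTproj f (𝟙_ (Over S))) f (𝟙 S) :=
    IsPullback.of_hasPullback f (𝟙_ (Over S)).hom
  have hsecg : sec f c₁ ≫ g = 𝟙 S ≫ σ := sec_fst f c₁
  have hk : σ.ker.comap g = (sec f c₁).ker := comap_ker_lift hsq σ hσ (sec f c₁) (sec_proj f c₁) hsecg
  have hσe : BlowUp.IsEffCartierIdeal σ.ker := H12Pic.CurveFam.isEffCartierIdeal_section f σ hσ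
  have hc : secU f (constPt f hσ T) = pullU (pullback.fst f f) (unitCls (H29Blow.isInvertible_of_isEffCartierIdeal _ hσe)) := by
    rw [← comp_constPt f hσ (toUnit T), ← pullU_secU]
    have h2 : pullU g (idU σ.ker hσe) = secU f c₁ := by
      rw [pullU_idU g hσe (hk ▸ isEffCartier_sec f c₁), idU_congr hk _ (isEffCartier_sec f c₁)]
      rfl
    rw [← h2, H25Theta.pullU_pullU]
    exact congrArg (fun m => pullU m (idU σ.ker hσe)) (XTmap_fst f _)
  have hu : unitCls (H11Ample.isInvertible_tensor hN hI) * secU f (𝟙 T) = secU f (constPt f hσ T) := by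
    have h1 : unitCls hN * secU f (𝟙 T) = 1 := Units.ext (Quot.sound ⟨eN⟩)
    rw [show unitCls (H11Ample.isInvertible_tensor hN hI) = unitCls hN * secU f (constPt f hσ T) from Units.ext rfl,
      mul_right_comm, h1, _root_.one_mul]
  have e : sec f (𝟙 T) = pullback.diagonal f := sec_id (f := f)
  rw [hc] at hu
  exact Sep.iso_of_cl_eq ((congrArg (fun k => cls (CohB1.tensorMod _ (ClSub.idealMod (Scheme.Hom.ker k)))) e).symm.trans
    (congrArg Units.val hu))

end Groth.Agent.H25Jac
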