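import Groth.Agent.H25Jac.AbelSum
import Groth.Agent.H18Quot.Categorical
import Groth.Agent.H25AbCube.HomFG
import Groth.Agent.S11992
import Groth.Agent.S11994

/-!
# The Jacobian as Albanese variety
-/

set_option autoImplicit false
set_option linter.style.haveILetI false
set_option linter.unusedSectionVars false
set_option maxHeartbeats 1600000
set_option backward.isDefEq.respectTransparency.types false

noncomputable section

universe u

open CategoryTheory CategoryTheory.Limits AlgebraicGeometry Opposite MonoidalCategory CartesianMonoidalCategory MonObj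

namespace Groth.Agent.H25Jac

open Groth.Agent.H12Pic Groth.Agent.H12Pic.PicCurve
open Groth.Agent.H27SymProd

variable {k : Type u} [Field k] {X : Scheme.{u}} {f : X ⟶ Spec (CommRingCat.of k)}
  {σ : Spec (CommRingCat.of k) ⟶ X} {hσ : σ ≫ f = 𝟙 _}

/-- Composition with a homomorphism preserves products. -/
theorem prod_comp_hom {W A B : Over (Spec (CommRingCat.of k))} [GrpObj A] [IsCommMonObj A] [GrpObj B]
    [IsCommMonObj B] (α : A ⟶ B) [IsMonHom α] {K : Type*} (s : Finset K) (a : K → (W ⟶ A)) :
    (∏ i ∈ s, a i) ≫ α = ∏ i ∈ s, a i ≫ α := by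
  classical
  induction s using Finset.induction_on with
  | empty => rw [Finset.prod_empty, Finset.prod_empty, MonObj.one_comp]
  | insert i s hi ih => rw [Finset.prod_insert hi, Finset.prod_insert hi, MonObj.mul_comp, ih]

/-- Composition from the left preserves products. -/
theorem comp_prod {W W' A : Over (Spec (CommRingCat.of k))} [GrpObj A] [IsCommMonObj A] (p : W' ⟶ W) {K : Type*}
    (s : Finset K) (a : K → (W ⟶ A)) :
    p ≫ (∏ i ∈ s, a i) = ∏ i ∈ s, p ≫ a i := by
  classical
  induction s using Finset.induction_on with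
  | empty => rw [Finset.prod_empty, Finset.prod_empty, MonObj.comp_one]
  | insert i s hi ih => rw [Finset.prod_insert hi, Finset.prod_insert hi, MonObj.comp_mul, ih]

variable [IsProper f] [SmoothOfRelativeDimension 1 f] [GeometricallyConnected f]
  {J : Over (Spec (CommRingCat.of k))} [GrpObj J] {D : JData f σ hσ J} {aj : Over.mk f ⟶ J}

theorem constPt_comp_abel
    (haj : ∀ (T : Over (Spec (CommRingCat.of k))) (b : T ⟶ Over.mk f), D.xU (b ≫ aj) = ptClass f hσ b)
    (T : Over (Spec (CommRingCat.of k))) : constPt f hσ T ≫ aj = 1 :=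
  D.xU_injective (by rw [haj, ptClass_constPt, D.xU_one])

variable [IsCommMonObj J] [Smooth J.hom] [IsSeparated J.hom] [QuasiCompact J.hom] [GeometricallyIntegral J.hom]

theorem existsUnique_albanese (hX : Curve.IsSmoothProperCurve k X f)
    (hg : letI : X.Over (Spec (CommRingCat.of k)) := ⟨f⟩
      0 < Module.finrank k (Coh.HH X (Coh.structureModule X) 1))
    (haj : ∀ (T : Over (Spec (CommRingCat.of k))) (b : T ⟶ Over.mk f), D.xU (b ≫ aj) = ptClass f hσ b)
    (A : Over (Spec (CommRingCat.of k))) [GrpObj A] [IsProper A.hom] [GeometricallyIntegral A.hom]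
    (h : Over.mk f ⟶ A) (hh : constPt f hσ (𝟙_ _) ≫ h = η[A]) :
    ∃! α : J ⟶ A, IsMonHom α ∧ aj ≫ α = h := by
  classical
  haveI : IsCommMonObj A := H25AbCube.isCommMonObj_of_av
  obtain ⟨gn, H, φ, ΦH, G, V, hV, hgn, hHs, hHp, hsurj, hfl, hlfp, hquot, hΦ, hGne, hVH, hVr, hVo, hVΦ, -⟩ :=
    exists_birational hX D haj
  haveI := hsurj
  haveI := hfl
  haveI := hVo
  haveI : IsIntegral J.left := GeometricallyIntegral.isIntegral_of_subsingleton J.hom
  have hVne : (V : Set J.left).Nonempty := by
    obtain ⟨x, hx⟩ := hGne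
    rw [← hVr] at hx
    obtain ⟨v, -⟩ := hx
    exact ⟨v.1, v.2⟩
  haveI : IsDominant V.ι := ⟨by
    show Dense (Set.range V.ι)
    rw [Scheme.Opens.range_ι]
    exact V.2.dense hVne⟩
  haveI : Epi φ.left := Flat.epi_of_flat_of_surjective φ.left
  haveI : Epi φ := ⟨fun a b e => Over.OverMorphism.ext ((cancel_epi φ.left).1 (congrArg CommaMorphism.left e))⟩
  let TV : Over (Spec (CommRingCat.of k)) := AbDual.ovr J V.ι
  let ιV : TV ⟶ J := AbDual.ovrHom J V.ι
  let hv : TV ⟶ H := Over.homMk hV hVH
  have hvΦ : hv ≫ ΦH = ιV := Over.OverMorphism.ext hVΦ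
  -- uniqueness
  have huniq : ∀ α β : J ⟶ A, IsMonHom α → IsMonHom β → aj ≫ α = aj ≫ β → α = β := by
    intro α β hα hβ e
    have e1 : ΦH ≫ α = ΦH ≫ β := by
      rw [← cancel_epi φ, reassoc_of% hΦ, reassoc_of% hΦ, prod_comp_hom, prod_comp_hom]
      simp only [Category.assoc, e]
    have e2 : V.ι ≫ α.left = V.ι ≫ β.left := by
      have := congrArg CommaMorphism.left (congrArg (hv ≫ ·) e1)
      rwa [← Category.assoc, ← Category.assoc, hvΦ] at this
    exact Over.OverMorphism.ext
      (ext_of_isDominant_of_isSeparated A.hom ((Over.w α).trans (Over.w β).symm) V.ι e2)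
  suffices hex : ∃ α : J ⟶ A, IsMonHom α ∧ aj ≫ α = h by
    obtain ⟨α, hα, e⟩ := hex
    exact ⟨α, ⟨hα, e⟩, fun β hβ => huniq β α hβ.1 hα (hβ.2.trans e.symm)⟩
  -- the sum map descends to the quotient
  let P : powOver f gn ⟶ A := ∏ i, coord f gn i ≫ h
  have hinv : ∀ g : ULift.{u} (Equiv.Perm (Fin gn)), (SymProd.permActU f gn g).hom ≫ P.left = P.left := by
    intro g
    let pm : powOver f gn ⟶ powOver f gn := Over.homMk (SymProd.permHom f gn g.down) (SymProd.permHom_base f gn g.down)
    have hpm : ∀ i, pm ≫ coord f gn i = coord f gn (g.down.symm i) := fun i =>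
      Over.OverMorphism.ext (SymProd.permHom_π f gn g.down i)
    have hP : pm ≫ P = P := by
      simp only [P, comp_prod, reassoc_of% hpm]
      exact Fintype.prod_equiv g.down.symm _ _ fun i => rfl
    exact congrArg CommaMorphism.left hP
  obtain ⟨Sl, hSl⟩ := H18Quot.exists_desc P.left hinv hquot
  let S : H ⟶ A := Over.homMk Sl (by
    rw [← cancel_epi φ.left, ← Category.assoc, hSl, Over.w P, Over.w φ])
  have hS : φ ≫ S = P := Over.OverMorphism.ext hSl
  -- extension to the whole group
  obtain ⟨gl, hgl1, hgl2⟩ := S11992.result k J.left J.hom A V hVne (hV ≫ Sl) (by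
    show (hV ≫ S.left) ≫ A.hom = V.ι ≫ J.hom
    rw [Category.assoc, Over.w S, hVH])
  let α : J ⟶ A := Over.homMk gl hgl1
  let a0 : 𝟙_ (Over (Spec (CommRingCat.of k))) ⟶ A := η[J] ≫ α
  let α0 : J ⟶ A := α * (toUnit J ≫ a0)⁻¹
  haveI hα0 : IsMonHom α0 := S11994.result k J A α0 (by
    simp only [α0, MonObj.comp_mul, GrpObj.comp_inv, ← Category.assoc, toUnit_unique (η[J] ≫ toUnit J) (𝟙 _),
      Category.id_comp]
    rw [show η[J] ≫ α = a0 from rfl, mul_inv_cancel, Hom.one_def, toUnit_unique (toUnit _) (𝟙 _), Category.id_comp])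
  refine ⟨α0, hα0, ?_⟩
  -- the difference
  let h' : Over.mk f ⟶ A := h * (aj ≫ α0)⁻¹
  suffices hh' : h' = 1 from (mul_inv_eq_one.1 hh').symm
  have hP' : ∏ i, coord f gn i ≫ h' = toUnit _ ≫ a0 := by
    let E : H ⟶ A := S * (ΦH ≫ α0)⁻¹
    have hE : ∏ i, coord f gn i ≫ h' = φ ≫ E := by
      simp only [h', E, MonObj.comp_mul, GrpObj.comp_inv, Finset.prod_mul_distrib, Finset.prod_inv_distrib, hS,
        reassoc_of% hΦ, prod_comp_hom, Category.assoc]
      rfl
    have hEV : hv ≫ E = hv ≫ toUnit H ≫ a0 := by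
      have hvS : hv ≫ S = ιV ≫ α := Over.OverMorphism.ext hgl2.symm
      rw [show hv ≫ toUnit H ≫ a0 = toUnit TV ≫ a0 by rw [← Category.assoc, toUnit_unique (hv ≫ toUnit H)]]
      simp only [E, α0, MonObj.comp_mul, GrpObj.comp_inv, reassoc_of% hvΦ, hvS]
      rw [← Category.assoc ιV, toUnit_unique (ιV ≫ toUnit J) (toUnit TV), mul_inv, inv_inv, mul_inv_cancel_left]
    have hET : E = toUnit H ≫ a0 := by
      haveI := (irreducibleSpace_powOver (f := f) gn).1
      haveI : IrreducibleSpace ↥H.left :=
        { isPreirreducible_univ := by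
            rw [← φ.left.surjective.range_eq, ← Set.image_univ]
            exact (PreirreducibleSpace.isPreirreducible_univ).image _ φ.left.continuous.continuousOn
          toNonempty := ⟨φ.left (Classical.arbitrary _)⟩ }
      haveI := H19Grp.geometricallyReduced_of_smooth_hom H.hom
      haveI : IsLocallyNoetherian H.left := LocallyOfFiniteType.isLocallyNoetherian H.hom
      haveI : IsReduced H.left := GeometricallyReduced.isReduced_of_flat_of_isLocallyNoetherian H.hom
      haveI : IsDominant hV := ⟨by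
        show Dense (Set.range hV)
        rw [hVr]
        exact G.2.dense hGne⟩
      exact Over.OverMorphism.ext (ext_of_isDominant_of_isSeparated A.hom ((Over.w E).trans (Over.w _).symm) hV
        (congrArg CommaMorphism.left hEV))
    rw [hE, hET, ← Category.assoc, toUnit_unique (φ ≫ toUnit H)]
  -- evaluation on the partial diagonal
  have hgn0 : 0 < gn := hgn ▸ hg
  let i0 : Fin gn := ⟨0, hgn0⟩
  have hconst : ∀ T : Over (Spec (CommRingCat.of k)), constPt f hσ T ≫ h' = 1 := fun T => by
    simp only [h', MonObj.comp_mul, GrpObj.comp_inv, reassoc_of% constPt_comp_abel haj T]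
    rw [← comp_constPt f hσ (toUnit T), Category.assoc, hh, ← Hom.one_def, MonObj.one_comp, inv_one,
      _root_.one_mul]
  have heval : ∀ (T : Over (Spec (CommRingCat.of k))) (b : T ⟶ Over.mk f), b ≫ h' = toUnit T ≫ a0 := by
    intro T b
    let c : Fin gn → (T ⟶ Over.mk f) := fun i => if i = i0 then b else constPt f hσ T
    let t : T ⟶ powOver f gn :=
      Over.homMk (WidePullback.lift T.hom (fun i => (c i).left) fun i => Over.w (c i)) (WidePullback.lift_base _ _ _ _)
    have htc : ∀ i, t ≫ coord f gn i = c i := fun i => Over.OverMorphism.ext (WidePullback.lift_π _ _ _ _ i)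
    have := congrArg (t ≫ ·) hP'
    rw [comp_prod, ← Category.assoc t, toUnit_unique (t ≫ toUnit _) (toUnit T)] at this
    rw [← this, Fintype.prod_eq_single i0 (fun i hi => ?_)]
    · rw [reassoc_of% htc, show c i0 = b from if_pos rfl]
    · rw [reassoc_of% htc, show c i = constPt f hσ T from if_neg hi, hconst]
  have ha1 : toUnit (Over.mk f) ≫ a0 = 1 := by
    rw [← toUnit_unique (toUnit (Over.mk f) ≫ toUnit (𝟙_ _)) (toUnit _), Category.assoc,
      ← heval (𝟙_ _) (constPt f hσ _), hconst, MonObj.comp_one]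
  rw [← Category.id_comp h', heval _ (𝟙 _), ha1]

end Groth.Agent.H25Jac
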