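import Groth.Agent.H25Jac.SepClosed
import Groth.Agent.H25Jac.AbelSum
import Groth.Prelude.Def_Red

/-!
# Base change of the universal class
-/

set_option autoImplicit false
set_option linter.style.haveILetI false
set_option linter.unusedSectionVars false
set_option maxHeartbeats 1600000
set_option backward.isDefEq.respectTransparency.types false

noncomputable section

universe u

open CategoryTheory CategoryTheory.Limits AlgebraicGeometry Opposite MonoidalCategory CartesianMonoidalCategory MonObj

namespace Groth.Agent.H25Jac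

open Groth.Agent.H17.PullCl Groth.Agent.H12Pic Groth.Agent.H12Pic.PicCurve Groth.Agent.H12Pic.RigPoints
open Groth.Agent.H12Pic.PicCurve.BaseChangePic (down downHom toS toS_pullCl)
open Groth.Agent.H25Theta (Cls cls pull pullU unitCls pb)

variable {X S S' : Scheme.{u}} {f : X ⟶ S} {σ : S ⟶ X} {hσ : σ ≫ f = 𝟙 S} (g : S' ⟶ S)
  {J : Over S}

/-- A point of a base change seen over the original base. -/
abbrev prj {T : Over S'} (a : T ⟶ Red.bc g J) : down g T ⟶ J :=
  Over.homMk (a.left ≫ pullback.fst J.hom g) (by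
    show (a.left ≫ pullback.fst J.hom g) ≫ J.hom = T.hom ≫ g
    rw [Category.assoc, pullback.condition, ← Category.assoc]
    exact congrArg (· ≫ g) (Over.w a))

/-- The identification of the families over a base change. -/
abbrev bcIso (f : X ⟶ S) (T : Over S') : PicF.XT (pullback.snd f g) T ≅ PicF.XT f (down g T) :=
  pullbackLeftPullbackSndIso f g T.hom

theorem bcIso_hom_fst (T : Over S') :
    (bcIso g f T).hom ≫ pullback.fst _ _ = pullback.fst _ _ ≫ pullback.fst f g :=
  pullbackLeftPullbackSndIso_hom_fst f g T.hom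

theorem bcIso_hom_snd (T : Over S') : (bcIso g f T).hom ≫ pullback.snd _ _ = pullback.snd _ _ :=
  pullbackLeftPullbackSndIso_hom_snd f g T.hom

theorem XTmap_bcIso {T T' : Over S'} (h : T' ⟶ T) :
    PicF.XTmap (pullback.snd f g) h ≫ (bcIso g f T).hom = (bcIso g f T').hom ≫ PicF.XTmap f (downHom g h) := by
  have e : (bcIso g f T').inv ≫ PicF.XTmap (pullback.snd f g) h = PicF.XTmap f (downHom g h) ≫ (bcIso g f T).inv :=
    inv_XTmap f g h
  rw [Iso.inv_comp_eq, ← Category.assoc] at e
  rw [e, Category.assoc, Iso.inv_hom_id, Category.comp_id]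

theorem map_fst {A B : Over S} (m : A ⟶ B) :
    ((Over.pullback g).map m).left ≫ pullback.fst B.hom g = pullback.fst A.hom g ≫ m.left :=
  pullback.lift_fst _ _ _

theorem prj_map {T : Over S'} {A B : Over S} (c : T ⟶ Red.bc g A) (m : A ⟶ B) :
    prj g (c ≫ (Over.pullback g).map m) = prj g c ≫ m :=
  Over.OverMorphism.ext ((Category.assoc _ _ _).trans
    ((congrArg (c.left ≫ ·) (map_fst g m)).trans (Category.assoc _ _ _).symm))

theorem prj_mul [GrpObj J] {T : Over S'} (a b : T ⟶ Red.bc g J) : prj g (a * b) = prj g a * prj g b := by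
  let F := Over.pullback g
  let c : T ⟶ Red.bc g (J ⊗ J) := lift a b ≫ Functor.LaxMonoidal.μ F J J
  have e1 : c ≫ F.map (fst J J) = a := by
    rw [Category.assoc, Functor.Monoidal.μ_fst, lift_fst]
  have e2 : c ≫ F.map (snd J J) = b := by
    rw [Category.assoc, Functor.Monoidal.μ_snd, lift_snd]
  have e3 : prj g c = lift (prj g a) (prj g b) := by
    apply CartesianMonoidalCategory.hom_ext
    · rw [lift_fst, ← prj_map, e1]
    · rw [lift_snd, ← prj_map, e2]
  have e4 : a * b = c ≫ F.map μ[J] := (Category.assoc _ _ _).symm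
  rw [e4, prj_map, e3]
  rfl

theorem prj_comp {T T' : Over S'} (h : T' ⟶ T) (a : T ⟶ Red.bc g J) : prj g (h ≫ a) = downHom g h ≫ prj g a :=
  Over.OverMorphism.ext (Category.assoc _ _ _)

theorem prj_injective {T : Over S'} {a b : T ⟶ Red.bc g J} (h : prj g a = prj g b) : a = b :=
  Over.OverMorphism.ext (pullback.hom_ext (congrArg CommaMorphism.left h) ((Over.w a).trans (Over.w b).symm))

theorem exists_prj {T : Over S'} (x : down g T ⟶ J) : ∃ a : T ⟶ Red.bc g J, prj g a = x :=
  ⟨Over.homMk (pullback.lift x.left T.hom (Over.w x)) (pullback.lift_snd _ _ _),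
    Over.OverMorphism.ext (pullback.lift_fst _ _ _)⟩

variable [GrpObj J] [IsProper f] [SmoothOfRelativeDimension 1 f] [GeometricallyConnected f]

/-- The base change of the universal class. -/
def bcCl (D : JData f σ hσ J) : PicF.Cl (PicF.XT (pullback.snd f g) (Red.bc g J)) :=
  PicF.pullCl (bcIso g f (Red.bc g J)).hom (PicF.pullCl (PicF.XTmap f (prj g (𝟙 (Red.bc g J)))) D.cl)

theorem pullCl_bcCl (D : JData f σ hσ J) {T : Over S'} (a : T ⟶ Red.bc g J) :
    PicF.pullCl (PicF.XTmap (pullback.snd f g) a) (bcCl g D) =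
      PicF.pullCl (bcIso g f T).hom (PicF.pullCl (PicF.XTmap f (prj g a)) D.cl) := by
  rw [bcCl, ← pullCl_comp, ← pullCl_comp, ← pullCl_comp]
  refine congrArg (fun F => PicF.pullCl F D.cl) ?_
  rw [XTmap_bcIso, Category.assoc, ← XTmap_comp, ← prj_comp, Category.comp_id]

/-- The Jacobian datum of the base change. -/
def JData.bc (D : JData f σ hσ J) :
    JData (pullback.snd f g) (bcSec hσ g) (bcSec_snd hσ g) (Red.bc g J) where
  cl := bcCl g D
  mem := (isDZ_bc_iff hσ g (Red.bc g J) _).2 (D.mem.pull _)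
  univ T c hc := by
    have key : PicF.pullCl (bcIso g f T).hom (toS f g T c) = c := by
      rw [toS, ← pullCl_comp, Iso.hom_inv_id]
      exact pullCl_id c
    have hc' : IsDZ f σ hσ (down g T) (toS f g T c) := (isDZ_bc_iff hσ g T _).1 (by rwa [key])
    obtain ⟨x, hx, hu⟩ := D.univ (down g T) _ hc'
    obtain ⟨a, rfl⟩ := exists_prj g x
    refine ⟨a, ?_, fun b hb => prj_injective g (hu _ ?_)⟩
    · show PicF.pullCl _ (bcCl g D) = c
      rw [pullCl_bcCl, hx, key]
    · show PicF.pullCl (PicF.XTmap f (prj g b)) D.cl = toS f g T c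
      have hb' : PicF.pullCl (PicF.XTmap (pullback.snd f g) b) (bcCl g D) = c := hb
      rw [← hb', pullCl_bcCl, toS, ← pullCl_comp (bcIso g f T).inv, Iso.inv_hom_id]
      exact (pullCl_id _).symm
  mul T a b := by
    have key : ∀ x : T ⟶ Red.bc g J, pull (PicF.XTmap (pullback.snd f g) x)
        (show Cls (PicF.XT (pullback.snd f g) (Red.bc g J)) from bcCl g D) =
        pull (bcIso g f T).hom (pull (PicF.XTmap f (prj g x)) (show Cls (PicF.XT f J) from D.cl)) := fun x =>
      pullCl_bcCl g D x
    rw [key, key, key, prj_mul, D.mul, map_mul]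

theorem JData.bc_xU (D : JData f σ hσ J) {T : Over S'}
    [IsProper (pullback.snd f g)] [SmoothOfRelativeDimension 1 (pullback.snd f g)]
    [GeometricallyConnected (pullback.snd f g)] (a : T ⟶ Red.bc g J) :
    (D.bc g).xU a = pullU (bcIso g f T).hom (D.xU (prj g a)) :=
  Units.ext (pullCl_bcCl g D a)

end Groth.Agent.H25Jac
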