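import Groth.Agent.H25Jac.Functor
import Groth.Agent.H13Desc.Eff.FinLocFreeApps

/-!
# Descent of the scheme of degree zero classes along a finite locally free cover of the base
-/

set_option autoImplicit false
set_option linter.style.haveILetI false
set_option linter.unusedSectionVars false
set_option maxHeartbeats 1200000
set_option backward.isDefEq.respectTransparency.types false

noncomputable section

universe u

open CategoryTheory CategoryTheory.Limits AlgebraicGeometry Opposite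

namespace Groth.Agent.H25Jac

open Groth.Agent.H17.PullCl Groth.Agent.H12Pic Groth.Agent.H12Pic.PicCurve

attribute [local instance] fibreOverField

variable {X S : Scheme.{u}} {f : X ⟶ S} {σ : S ⟶ X} {hσ : σ ≫ f = 𝟙 S}

section rel

variable {U : Over S} (Z : Over U.left)

/-- A point of a scheme over the cover as a morphism over the base. -/
abbrev pt {T : Scheme.{u}} (t : T ⟶ S) (v : T ⟶ Z.left) (h : v ≫ Z.hom ≫ U.hom = t) : Over.mk t ⟶ dn U Z :=
  Over.homMk v h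

/-- Two points with the same image in the base and the same class. -/
def SameCl (z : PicF.Cl (PicF.XT f (dn U Z))) {T : Scheme.{u}} (v w : T ⟶ Z.left) : Prop :=
  ∃ h : w ≫ Z.hom ≫ U.hom = v ≫ Z.hom ≫ U.hom,
    PicF.pullCl (PicF.XTmap f (pt Z _ v rfl)) z = PicF.pullCl (PicF.XTmap f (pt Z _ w h)) z

variable {Z} {z : PicF.Cl (PicF.XT f (dn U Z))} {T : Scheme.{u}} {v w x : T ⟶ Z.left}

theorem sameCl_iff (t : T ⟶ S) (hv : v ≫ Z.hom ≫ U.hom = t) (hw : w ≫ Z.hom ≫ U.hom = t) :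
    SameCl Z z v w ↔ PicF.pullCl (PicF.XTmap f (pt Z t v hv)) z = PicF.pullCl (PicF.XTmap f (pt Z t w hw)) z := by
  subst hv
  exact ⟨fun ⟨_, h⟩ => h, fun h => ⟨hw, h⟩⟩

theorem SameCl.refl : SameCl Z z v v := ⟨rfl, rfl⟩

theorem SameCl.symm (h : SameCl Z z v w) : SameCl Z z w v :=
  (sameCl_iff _ h.1 rfl).2 h.2.symm

theorem SameCl.trans (h : SameCl Z z v w) (h' : SameCl Z z w x) : SameCl Z z v x :=
  (sameCl_iff _ rfl (h'.1.trans h.1)).2 (h.2.trans ((sameCl_iff _ h.1 (h'.1.trans h.1)).1 h'))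

theorem SameCl.comp (h : SameCl Z z v w) {T' : Scheme.{u}} (g : T' ⟶ T) : SameCl Z z (g ≫ v) (g ≫ w) := by
  let gh : Over.mk (g ≫ v ≫ Z.hom ≫ U.hom) ⟶ Over.mk (v ≫ Z.hom ≫ U.hom) := Over.homMk g rfl
  refine (sameCl_iff (g ≫ v ≫ Z.hom ≫ U.hom) (Category.assoc _ _ _) (by rw [Category.assoc, h.1])).2 ?_
  have e1 : ∀ (y : T ⟶ Z.left) (hy : y ≫ Z.hom ≫ U.hom = v ≫ Z.hom ≫ U.hom) (hgy),
      pt Z (g ≫ v ≫ Z.hom ≫ U.hom) (g ≫ y) hgy = gh ≫ pt Z _ y hy := fun y hy hgy => Over.OverMorphism.ext rfl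
  rw [e1 v rfl, e1 w h.1, XTmap_comp, XTmap_comp, pullCl_comp, pullCl_comp, h.2]

variable [IsProper f] [SmoothOfRelativeDimension 1 f] [GeometricallyConnected f]

theorem existsUnique_sameCl (hrep : Rep f σ hσ U Z z) (v : T ⟶ Z.left) (x₁ : T ⟶ U.left)
    (h : x₁ ≫ U.hom = v ≫ Z.hom ≫ U.hom) : ∃! w : T ⟶ Z.left, w ≫ Z.hom = x₁ ∧ SameCl Z z v w := by
  let To := Over.mk (v ≫ Z.hom ≫ U.hom)
  let r : To ⟶ U := Over.homMk x₁ h
  obtain ⟨a, ⟨haq, haz⟩, huniq⟩ := hrep.univ To r _ (hrep.mem.pull (pt Z _ v rfl))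
  refine ⟨a.left, ⟨congrArg CommaMorphism.left haq, (sameCl_iff _ rfl (Over.w a)).2 haz.symm⟩, ?_⟩
  rintro w ⟨hw, hs, he⟩
  exact congrArg CommaMorphism.left (huniq (pt Z _ w hs) ⟨Over.OverMorphism.ext hw, he.symm⟩)

omit [IsProper f] [SmoothOfRelativeDimension 1 f] [GeometricallyConnected f] in
theorem compat (x₀ x₁ : T ⟶ U.left) (h : x₀ ≫ U.hom = x₁ ≫ U.hom) (v : Desc.Lifts Z x₀) :
    x₁ ≫ U.hom = v.1 ≫ Z.hom ≫ U.hom := by rw [← h, ← Category.assoc v.1, v.2]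

/-- The move of a point to another point of the cover. -/
def move (hrep : Rep f σ hσ U Z z) (x₀ x₁ : T ⟶ U.left) (h : x₀ ≫ U.hom = x₁ ≫ U.hom) (v : Desc.Lifts Z x₀) :
    Desc.Lifts Z x₁ :=
  ⟨(existsUnique_sameCl hrep v.1 x₁ (compat x₀ x₁ h v)).choose,
    (existsUnique_sameCl hrep v.1 x₁ (compat x₀ x₁ h v)).choose_spec.1.1⟩

theorem move_spec (hrep : Rep f σ hσ U Z z) (x₀ x₁ : T ⟶ U.left) (h : x₀ ≫ U.hom = x₁ ≫ U.hom)
    (v : Desc.Lifts Z x₀) : SameCl Z z v.1 (move hrep x₀ x₁ h v).1 :=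
  (existsUnique_sameCl hrep v.1 x₁ (compat x₀ x₁ h v)).choose_spec.1.2

theorem move_eq (hrep : Rep f σ hσ U Z z) (x₀ x₁ : T ⟶ U.left) (h : x₀ ≫ U.hom = x₁ ≫ U.hom)
    (v : Desc.Lifts Z x₀) (w : T ⟶ Z.left) (hw : w ≫ Z.hom = x₁) (hs : SameCl Z z v.1 w) :
    (move hrep x₀ x₁ h v).1 = w :=
  ((existsUnique_sameCl hrep v.1 x₁ (compat x₀ x₁ h v)).choose_spec.2 w ⟨hw, hs⟩).symm

/-- The descent datum on the scheme of classes over the cover. -/
def datum (hrep : Rep f σ hσ U Z z) : Desc.SchDD U.hom where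
  obj := Z
  φ _ x₀ x₁ h :=
    { toFun := move hrep x₀ x₁ h
      invFun := move hrep x₁ x₀ h.symm
      left_inv := fun v => Subtype.ext (move_eq hrep _ _ _ _ _ v.2 (move_spec hrep x₀ x₁ h v).symm)
      right_inv := fun v => Subtype.ext (move_eq hrep _ _ _ _ _ v.2 (move_spec hrep x₁ x₀ h.symm v).symm) }
  φ_natural T T' g x₀ x₁ h h' v v' hv' := by
    refine move_eq hrep (g ≫ x₀) (g ≫ x₁) h' v' _ ((Category.assoc _ _ _).trans (congrArg (g ≫ ·) (move hrep x₀ x₁ h v).2)) ?_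
    rw [hv']
    exact (move_spec hrep x₀ x₁ h v).comp g
  φ_self T x v := Subtype.ext (move_eq hrep x x rfl v _ v.2 SameCl.refl)
  φ_comp T x₀ x₁ x₂ h₀₁ h₁₂ v :=
    Subtype.ext (move_eq hrep x₀ x₂ (h₀₁.trans h₁₂) v _ (move hrep x₁ x₂ h₁₂ (move hrep x₀ x₁ h₀₁ v)).2
      ((move_spec hrep x₀ x₁ h₀₁ v).trans (move_spec hrep x₁ x₂ h₁₂ _))).symm

end rel

variable [IsProper f] [SmoothOfRelativeDimension 1 f] [GeometricallyConnected f]
  (ha : ∀ (T : Over S) (U : T.left.Opens), IsIso ((PicF.XTproj f T).app U))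

include ha in
/-- Representability of the degree zero classes descends along a finite locally free cover. -/
theorem exists_rep_of_finLocFree {U : Over S} [IsFinite U.hom] [Flat U.hom] [LocallyOfFinitePresentation U.hom]
    [Surjective U.hom] {Z : Over U.left} {z : PicF.Cl (PicF.XT f (dn U Z))} (hrep : Rep f σ hσ U Z z)
    {M : Z.left.Modules} (hM : CohB1.IsAmple M) :
    ∃ (J : Over S) (ξ : PicF.Cl (PicF.XT f (dn (Over.mk (𝟙 S)) J))) (m : dn U Z ⟶ dn (Over.mk (𝟙 S)) J),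
      IsPullback m.left Z.hom J.hom U.hom ∧ Rep f σ hσ (Over.mk (𝟙 S)) J ξ := by
  let D := datum hrep
  obtain ⟨J, ⟨ε⟩⟩ := H13Desc.Eff.isEffective_finLocFree D fun _ s _ _ => H13Desc.Eff.exists_affine_of_isAmple hM s
  let P := pullback U.hom J.hom
  let ζ : P ⟶ Z.left := ε.hom.hom.left
  let ζ' : Z.left ⟶ P := ε.inv.hom.left
  have hζζ : ζ ≫ ζ' = 𝟙 _ := congrArg (fun g => g.hom.left) ε.hom_inv_id
  have hζζ' : ζ' ≫ ζ = 𝟙 _ := congrArg (fun g => g.hom.left) ε.inv_hom_id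
  have hζ : ζ ≫ Z.hom = pullback.fst U.hom J.hom := Over.w ε.hom.hom
  have hζ' : ζ' ≫ pullback.fst U.hom J.hom = Z.hom := Over.w ε.inv.hom
  let J' := dn (Over.mk (𝟙 S)) J
  let u : P ⟶ J'.left := pullback.snd U.hom J.hom
  haveI : Flat u := MorphismProperty.pullback_snd (P := @Flat) _ _ inferInstance
  haveI : Surjective u := MorphismProperty.pullback_snd (P := @Surjective) _ _ inferInstance
  haveI : LocallyOfFinitePresentation u :=
    MorphismProperty.pullback_snd (P := @LocallyOfFinitePresentation) _ _ inferInstance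
  have hJ' : J'.hom = J.hom := Category.comp_id _
  let j : AbDual.ovr J' u ⟶ dn U Z := Over.homMk ζ (by
    show ζ ≫ Z.hom ≫ U.hom = u ≫ J'.hom
    rw [hJ', reassoc_of% hζ, pullback.condition])
  have hglue : PicF.pullCl (PicF.XTmap f (AbDual.ovrHom (AbDual.ovr J' u) (pullback.fst u u)))
        (PicF.pullCl (PicF.XTmap f j) z) =
      PicF.pullCl (PicF.XTmap f (Over.homMk (pullback.snd u u) (pullback.condition_assoc J'.hom).symm :
        AbDual.ovr (AbDual.ovr J' u) (pullback.fst u u) ⟶ AbDual.ovr J' u)) (PicF.pullCl (PicF.XTmap f j) z) := by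
    let a := pullback.fst u u
    let b := pullback.snd u u
    have hab : (a ≫ pullback.fst U.hom J.hom) ≫ U.hom = (b ≫ pullback.fst U.hom J.hom) ≫ U.hom := by
      rw [Category.assoc, Category.assoc, pullback.condition, ← Category.assoc, ← Category.assoc]
      exact congrArg (· ≫ J.hom) (pullback.condition (f := u) (g := u))
    have hcomm := ε.hom.comm (T := pullback u u) (a ≫ pullback.fst U.hom J.hom) (b ≫ pullback.fst U.hom J.hom) hab
      ⟨a, rfl⟩ ⟨a ≫ ζ, by rw [Category.assoc]; exact congrArg (a ≫ ·) hζ⟩ rfl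
    have hb : (((Desc.toDD U.hom).obj J).φ (a ≫ pullback.fst U.hom J.hom) (b ≫ pullback.fst U.hom J.hom) hab
        ⟨a, rfl⟩).1 = b :=
      pullback.hom_ext (pullback.lift_fst _ _ _)
        ((pullback.lift_snd _ _ _).trans (pullback.condition (f := u) (g := u)))
    rw [hb] at hcomm
    have hs : SameCl Z z (a ≫ ζ) (b ≫ ζ) := hcomm ▸ move_spec hrep _ _ hab _
    rw [← pullCl_comp, ← pullCl_comp, ← XTmap_comp, ← XTmap_comp]
    refine (sameCl_iff (pullback.fst u u ≫ u ≫ J'.hom) ((Category.assoc a ζ _).trans (congrArg (a ≫ ·) (Over.w j)))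
      ((Category.assoc b ζ _).trans ((congrArg (b ≫ ·) (Over.w j)).trans
        (pullback.condition_assoc J'.hom).symm))).1 hs
  obtain ⟨ξ, hξ⟩ := RigDescent.exists_descended f hσ ha J' u (hrep.mem.pull j).rig hglue
  haveI : Surjective (AbDual.ovrHom J' u).left := ‹Surjective u›
  have hξz : IsDZ f σ hσ J' ξ.1 := IsDZ.of_pull (AbDual.ovrHom J' u) ξ.2.1 ξ.2.2 (by
    rw [hξ]; exact hrep.mem.pull j)
  let i : dn U Z ⟶ AbDual.ovr J' u := Over.homMk ζ' (by
    show ζ' ≫ u ≫ J'.hom = Z.hom ≫ U.hom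
    rw [hJ', ← pullback.condition, reassoc_of% hζ'])
  let m : dn U Z ⟶ J' := i ≫ AbDual.ovrHom J' u
  have hm : IsPullback m.left Z.hom J.hom U.hom :=
    IsPullback.of_iso (IsPullback.of_hasPullback U.hom J.hom).flip
      { hom := ζ, inv := ζ', hom_inv_id := hζζ, inv_hom_id := hζζ' } (Iso.refl _) (Iso.refl _) (Iso.refl _)
      (by
        show pullback.snd U.hom J.hom ≫ 𝟙 _ = ζ ≫ ζ' ≫ u
        rw [Category.comp_id, reassoc_of% hζζ])
      (by
        show pullback.fst U.hom J.hom ≫ 𝟙 _ = ζ ≫ Z.hom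
        rw [Category.comp_id, hζ])
      (by simp) (by simp)
  have hmz : PicF.pullCl (PicF.XTmap f m) ξ.1 = z := by
    rw [XTmap_comp, pullCl_comp, hξ]
    show PicF.pullCl (PicF.XTmap f i) (PicF.pullCl (PicF.XTmap f j) z) = z
    rw [← pullCl_comp, ← XTmap_comp, show i ≫ j = 𝟙 _ from Over.OverMorphism.ext hζζ', H27HilbOps.XTmap_id]
    exact pullCl_id z
  let p : U ⟶ Over.mk (𝟙 S) := Over.homMk U.hom (Category.comp_id _)
  haveI : Flat p.left := ‹Flat U.hom›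
  haveI : Surjective p.left := ‹Surjective U.hom›
  haveI : QuasiCompact p.left := inferInstanceAs (QuasiCompact U.hom)
  exact ⟨J, ξ.1, m, hm, Rep.descend ha p J hξz Z m hm (hmz.symm ▸ hrep)⟩

end Groth.Agent.H25Jac
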