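import Groth.Agent.H25Jac.SepClosed
import Groth.Agent.H7Lim.GrpModel
import Groth.Agent.H12Pic.InvertibleStage
import Groth.Agent.H13AlgSp.FieldLimit
import Groth.Agent.H19Chev.GroupAmple
import Groth.Agent.H19Grp.GeomConnected

/-!
# The degree zero classes are represented over a finite extension of the field
-/

set_option autoImplicit false
set_option linter.style.haveILetI false
set_option linter.unusedSectionVars false
set_option maxHeartbeats 1600000
set_option backward.isDefEq.respectTransparency.types false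

noncomputable section

universe u

open CategoryTheory CategoryTheory.Limits AlgebraicGeometry Opposite

namespace Groth.Agent.H25Jac

open Groth.Agent.H17.PullCl Groth.Agent.H12Pic Groth.Agent.H12Pic.PicCurve Groth.Agent.H12Pic.RigPoints
open Groth.Agent.H25Theta (Cls cls pb pC)

/-- Geometric irreducibility descends along an extension of the field. -/
theorem geometricallyIrreducible_of_baseChange {E K : Type u} [Field E] [Field K]
    (q : Spec (CommRingCat.of K) ⟶ Spec (CommRingCat.of E)) {A Z : Scheme.{u}} {fA : A ⟶ Spec (CommRingCat.of K)}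
    {fZ : Z ⟶ Spec (CommRingCat.of E)} {m : A ⟶ Z} (hm : IsPullback m fA fZ q) [GeometricallyIrreducible fA] :
    GeometricallyIrreducible fZ := by
  refine ⟨fun L _ y W a b hW => ?_⟩
  haveI : Subsingleton ↥(Spec (CommRingCat.of E)) := inferInstanceAs (Subsingleton (PrimeSpectrum E))
  obtain ⟨x, -, -⟩ := Scheme.Pullback.exists_preimage_pullback (f := y) (g := q)
    (IsLocalRing.closedPoint L) (IsLocalRing.closedPoint K) (Subsingleton.elim _ _)
  let s := (pullback y q).fromSpecResidueField x ≫ pullback.fst y q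
  let t := (pullback y q).fromSpecResidueField x ≫ pullback.snd y q
  have hst : s ≫ y = t ≫ q := by rw [Category.assoc, pullback.condition, Category.assoc]
  haveI : Surjective s := ⟨fun z => ⟨IsLocalRing.closedPoint _, Subsingleton.elim (α := PrimeSpectrum L) _ _⟩⟩
  have h1 : IsPullback (pullback.fst b s ≫ a) (pullback.snd b s) fZ (s ≫ y) :=
    (IsPullback.of_hasPullback b s).paste_horiz hW
  have h2 : IsPullback (pullback.fst fA t ≫ m) (pullback.snd fA t) fZ (s ≫ y) := by
    rw [hst]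
    exact (IsPullback.of_hasPullback fA t).paste_horiz hm
  haveI : IrreducibleSpace ↥(pullback fA t) :=
    GeometricallyIrreducible.geometrically_irreducibleSpace _ _ _ (IsPullback.of_hasPullback fA t)
  let e := h2.isoIsPullback _ _ h1
  have hs : Function.Surjective (e.hom ≫ pullback.fst b s) :=
    (pullback.fst b s).surjective.comp e.hom.homeomorph.surjective
  exact hs.irreducibleSpace (e.hom ≫ pullback.fst b s).continuous

attribute [local instance] fibreOverField

open Groth.Agent.H7Lim Groth.Agent.H13AlgSp Groth.Agent.H7Lim.GeomConnFinite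

variable {k : Type u} [Field k] {X : Scheme.{u}} (f : X ⟶ Spec (CommRingCat.of k))
  [IsProper f] [SmoothOfRelativeDimension 1 f] [GeometricallyConnected f]
  {σ : Spec (CommRingCat.of k) ⟶ X} (hσ : σ ≫ f = 𝟙 _)

/-- The degree zero classes are represented over a finite extension of the field. -/
theorem exists_rep_finite :
    ∃ (E : Type u) (_ : Field E) (b : Spec (CommRingCat.of E) ⟶ Spec (CommRingCat.of k))
      (Z : Over (Spec (CommRingCat.of E))) (z : PicF.Cl (PicF.XT f (dn (Over.mk b) Z))) (M : Z.left.Modules),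
      IsFinite b ∧ IsProper Z.hom ∧ Smooth Z.hom ∧ GeometricallyIrreducible Z.hom ∧ CohB1.IsAmple M ∧
      Rep f σ hσ (Over.mk b) Z z := by
  haveI hfs : Smooth f := SmoothOfRelativeDimension.smooth 1 f
  let K := SeparableClosure k
  haveI : Nonempty (Finset K) := ⟨∅⟩
  let UK := extObj k K
  obtain ⟨A, hAg, zA, hAp, hAs, hAc, hrep⟩ := exists_rep_sepClosed f hσ K UK.hom
  haveI := hAp; haveI := hAs; haveI := hAc
  haveI hAi : GeometricallyIrreducible A.hom := H19Grp.geometricallyIrreducible_of_geometricallyConnected A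
  let D : (Finset K)ᵒᵖ ⥤ Scheme.{u} := (fieldFunctor k K).op ⋙ Scheme.Spec
  let c : Cone D := Scheme.Spec.mapCone (fieldCocone k K).op
  have hc : IsLimit c := isLimitOfPreserves Scheme.Spec (fieldIsColimit k K).op
  haveI : ∀ (i j : (Finset K)ᵒᵖ) (φ : i ⟶ j), IsAffineHom (D.map φ) := fun i j φ =>
    inferInstanceAs (IsAffineHom (Spec.map _))
  haveI : ∀ i, CompactSpace (D.obj i) := fun i => inferInstanceAs (CompactSpace (Spec _))
  haveI : ∀ i, QuasiSeparatedSpace (D.obj i) := fun i => inferInstanceAs (QuasiSeparatedSpace (Spec _))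
  let A' : Over c.pt := A
  letI : GrpObj A' := hAg
  haveI : LocallyOfFinitePresentation A'.hom := inferInstanceAs (LocallyOfFinitePresentation A.hom)
  haveI : QuasiCompact A'.hom := inferInstanceAs (QuasiCompact A.hom)
  haveI : QuasiSeparated A'.hom := inferInstanceAs (QuasiSeparated A.hom)
  obtain ⟨j₀, G, _, e, -, hGl, hGq, hGs⟩ := OverStage.exists_grpModel hc A'
  haveI := hGl; haveI := hGq; haveI := hGs
  let bj : ∀ j, D.obj j ⟶ Spec (CommRingCat.of k) := fun j => ((subfieldSystem k K).obj j).hom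
  have hπb : ∀ j, c.π.app j ≫ bj j = UK.hom := fun j => Over.w ((subfieldCone k K).π.app j)
  have hφb : ∀ {i j : (Finset K)ᵒᵖ} (φ : i ⟶ j), D.map φ ≫ bj j = bj i := fun φ => Over.w ((subfieldSystem k K).map φ)
  let U₀ : Over (Spec (CommRingCat.of k)) := Over.mk (bj j₀)
  let m₀l : A.left ⟶ G.left := e.hom.left ≫ pullback.fst G.hom (c.π.app j₀)
  have hm₀ : IsPullback m₀l A.hom G.hom (c.π.app j₀) :=
    IsPullback.of_iso_pullback ⟨by
      rw [Category.assoc, pullback.condition, ← Category.assoc]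
      exact congrArg (· ≫ c.π.app j₀) (Over.w e.hom)⟩ ((Over.forget _).mapIso e) rfl (Over.w e.hom)
  let m₀ : dn (Over.mk UK.hom) A ⟶ dn U₀ G := Over.homMk m₀l (by
    show m₀l ≫ G.hom ≫ bj j₀ = A.hom ≫ UK.hom
    rw [← Category.assoc, hm₀.w, Category.assoc]
    exact congrArg (A.hom ≫ ·) (hπb j₀))
  let a : PicF.XT f (dn U₀ G) ⟶ D.obj j₀ := PicF.XTproj f (dn U₀ G) ≫ G.hom
  have he₁ : IsPullback (PicF.XTmap f m₀) (PicF.XTproj f (dn (Over.mk UK.hom) A) ≫ A.hom) a (c.π.app j₀) :=
    (H27HilbOps.isPullback_XTmap f m₀).paste_vert hm₀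
  let e₁ := he₁.isoPullback
  haveI : CompactSpace G.left := QuasiCompact.compactSpace_of_compactSpace G.hom
  haveI : QuasiSeparatedSpace G.left := quasiSeparatedSpace_of_quasiSeparated G.hom
  haveI : CompactSpace (dn U₀ G).left := inferInstanceAs (CompactSpace G.left)
  haveI : QuasiSeparatedSpace (dn U₀ G).left := inferInstanceAs (QuasiSeparatedSpace G.left)
  haveI : IsProper (PicF.XTproj f (dn U₀ G)) := isProper_XTproj f _
  haveI : CompactSpace (PicF.XT f (dn U₀ G) : Scheme.{u}) :=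
    QuasiCompact.compactSpace_of_compactSpace (PicF.XTproj f (dn U₀ G))
  haveI : QuasiSeparatedSpace (PicF.XT f (dn U₀ G) : Scheme.{u}) :=
    quasiSeparatedSpace_of_quasiSeparated (PicF.XTproj f (dn U₀ G))
  obtain ⟨L, hLz, hL⟩ := hrep.mem.1
  obtain ⟨jj, -, L', hL', ⟨eL⟩⟩ := H12Pic.exists_invertible_stage (isLimitPbCone D j₀ a hc) (Over.mk (𝟙 j₀))
    (H11Ample.isInvertible_pullback e₁.inv hL)
  let φ := jj.hom
  let b : D.obj jj.left ⟶ Spec (CommRingCat.of k) := bj jj.left
  let U₁ : Over (Spec (CommRingCat.of k)) := Over.mk b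
  let Z : Over (D.obj jj.left) := (Over.pullback (D.map φ)).obj G
  letI : GrpObj Z := Functor.grpObjObj
  haveI : LocallyOfFiniteType Z.hom := inferInstanceAs (LocallyOfFiniteType (pullback.snd G.hom (D.map φ)))
  haveI : QuasiCompact Z.hom := inferInstanceAs (QuasiCompact (pullback.snd G.hom (D.map φ)))
  let m₁₀ : dn U₁ Z ⟶ dn U₀ G := Over.homMk (pullback.fst G.hom (D.map φ)) (by
    show pullback.fst G.hom (D.map φ) ≫ G.hom ≫ bj j₀ = pullback.snd G.hom (D.map φ) ≫ b
    rw [pullback.condition_assoc, hφb])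
  have hcw : c.π.app jj.left ≫ D.map φ = c.π.app j₀ := c.w φ
  let m₁l : A.left ⟶ Z.left := pullback.lift m₀l (A.hom ≫ c.π.app jj.left) (by rw [hm₀.w, Category.assoc]; exact congrArg (A.hom ≫ ·) hcw.symm)
  let m₁ : dn (Over.mk UK.hom) A ⟶ dn U₁ Z := Over.homMk m₁l (by
    show m₁l ≫ pullback.snd G.hom (D.map φ) ≫ b = A.hom ≫ UK.hom
    rw [pullback.lift_snd_assoc, Category.assoc]
    exact congrArg (A.hom ≫ ·) (hπb _))
  have hm₁ : IsPullback m₁.left A.hom Z.hom (c.π.app jj.left) := by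
    refine IsPullback.of_right (h₁₂ := pullback.fst G.hom (D.map φ)) (v₁₃ := G.hom) (h₂₂ := D.map φ) ?_
      (pullback.lift_snd _ _ _) (IsPullback.of_hasPullback _ _)
    rw [show m₁.left ≫ pullback.fst G.hom (D.map φ) = m₀l from pullback.lift_fst _ _ _]
    exact hcw.symm ▸ hm₀
  have hm₁₀ : m₁ ≫ m₁₀ = m₀ := Over.OverMorphism.ext (pullback.lift_fst _ _ _)
  let r : PicF.XT f (dn U₁ Z) ⟶ pullback a (D.map φ) :=
    pullback.lift (PicF.XTmap f m₁₀) (PicF.XTproj f (dn U₁ Z) ≫ Z.hom) (by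
      show _ ≫ PicF.XTproj f (dn U₀ G) ≫ G.hom = _
      rw [← Category.assoc, H17.PullCl.XTmap_snd, Category.assoc, Category.assoc]
      exact congrArg (_ ≫ ·) pullback.condition)
  have hr : PicF.XTmap f m₁ ≫ r = e₁.hom ≫ (pbCone D c j₀ a).π.app jj := by
    apply pullback.hom_ext
    · rw [Category.assoc, pullback.lift_fst, ← Sep.XTmap_comp, hm₁₀]
      refine Eq.trans ?_ (Category.assoc _ _ _).symm
      refine Eq.trans ?_ (congrArg (e₁.hom ≫ ·) ((pullback.lift_fst _ _ _).trans (Category.comp_id _)).symm)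
      exact he₁.isoPullback_hom_fst.symm
    · rw [Category.assoc, pullback.lift_snd, ← Category.assoc, H17.PullCl.XTmap_snd, Category.assoc]
      refine Eq.trans ?_ (Category.assoc _ _ _).symm
      refine Eq.trans ?_ (congrArg (e₁.hom ≫ ·) (pullback.lift_snd _ _ _).symm)
      refine Eq.trans ?_ ((congrArg (· ≫ c.π.app jj.left) he₁.isoPullback_hom_snd).symm.trans (Category.assoc _ _ _))
      exact (congrArg (_ ≫ ·) hm₁.w).trans (Category.assoc _ _ _).symm
  let L₁ := pb r L'
  have hL₁ : PicF.IsInvertible L₁ := H11Ample.isInvertible_pullback r hL'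
  have e₂ : pb (PicF.XTmap f m₁) L₁ ≅ L :=
    pC _ _ hr _ ≪≫ (pC e₁.hom ((pbCone D c j₀ a).π.app jj) rfl L').symm ≪≫
      (Scheme.Modules.pullback e₁.hom).mapIso eL ≪≫ pC e₁.hom e₁.inv e₁.hom_inv_id L ≪≫
      (Scheme.Modules.pullbackId _).app L
  obtain ⟨M', hM'i, ⟨rM'⟩, hM'⟩ := RigDescent.exists_rigidified (PicF.XTproj f (dn U₁ Z))
    (PicF.secT f σ hσ (dn U₁ Z)) (RigDescent.secT_snd f hσ (dn U₁ Z)) hL₁
  obtain ⟨eM⟩ : Nonempty (pb (PicF.XTmap f m₁) M' ≅ L) := by
    obtain ⟨rL⟩ := Sep.iso_of_cl_eq (L := pb (PicF.secT f σ hσ (dn (Over.mk UK.hom) A)) L)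
      (show PicF.cl _ = PicF.cl (Coh.structureModule _) from by
        have := hrep.mem.2.1
        rw [← hLz] at this
        exact this)
    obtain ⟨ψ⟩ := hM' (PicF.XTmap f m₁) ⟨(Scheme.Modules.pullbackCongr (H17.PullCl.XTmap_snd f m₁)).app _ ≪≫
      (pC (PicF.XTproj f (dn (Over.mk UK.hom) A)) m₁.left rfl _).symm ≪≫
      (Scheme.Modules.pullback (PicF.XTproj f (dn (Over.mk UK.hom) A))).mapIso
        (pC _ _ (secT_XTmap f hσ m₁).symm L₁ ≪≫
          (pC (PicF.secT f σ hσ (dn (Over.mk UK.hom) A)) (PicF.XTmap f m₁) rfl L₁).symm ≪≫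
          (Scheme.Modules.pullback _).mapIso e₂ ≪≫ rL) ≪≫ PicLoc.pullbackStructureIso _⟩
    exact ⟨ψ ≪≫ e₂⟩
  have hzA : PicF.pullCl (PicF.XTmap f m₁) (PicF.cl M') = zA := hLz ▸ Quot.sound ⟨eM⟩
  let p : Over.mk UK.hom ⟶ U₁ := Over.homMk (c.π.app jj.left) (hπb _)
  have hsurj : Surjective (c.π.app jj.left) :=
    ⟨fun x => ⟨IsLocalRing.closedPoint K, Subsingleton.elim
      (α := PrimeSpectrum (IntermediateField.adjoin k ((unop jj.left : Finset K) : Set K))) _ _⟩⟩
  have hflat : Flat (c.π.app jj.left) := by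
    refine Flat.SpecMap_iff.2 ?_
    letI := ((IntermediateField.adjoin k ((unop jj.left : Finset K) : Set K)).val.toRingHom).toAlgebra
    exact (inferInstance : Module.Flat (IntermediateField.adjoin k ((unop jj.left : Finset K) : Set K)) K)
  have hqc : QuasiCompact (c.π.app jj.left) := inferInstanceAs (QuasiCompact (Spec.map _))
  haveI : Surjective p.left := hsurj
  haveI : Flat p.left := hflat
  haveI : QuasiCompact p.left := hqc
  haveI : Surjective m₁.left := MorphismProperty.of_isPullback hm₁.flip hsurj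
  have hz₁ : IsDZ f σ hσ (dn U₁ Z) (PicF.cl M') :=
    IsDZ.of_pull m₁ ⟨M', rfl, hM'i⟩ (Quot.sound ⟨rM'⟩) (by rw [hzA]; exact hrep.mem)
  have hdesc : ∀ (P : MorphismProperty Scheme.{u}) [P.DescendsAlong (@Surjective ⊓ @Flat ⊓ @QuasiCompact)],
      P A.hom → P Z.hom := fun P _ h =>
    MorphismProperty.of_isPullback_of_descendsAlong (Q := @Surjective ⊓ @Flat ⊓ @QuasiCompact) hm₁.flip
      ⟨⟨hsurj, hflat⟩, hqc⟩ h
  let Z' : Over (Spec (CommRingCat.of (IntermediateField.adjoin k ((unop jj.left : Finset K) : Set K)))) := Z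
  letI : GrpObj Z' := ‹GrpObj Z›
  haveI : LocallyOfFiniteType Z'.hom := ‹LocallyOfFiniteType Z.hom›
  haveI : QuasiCompact Z'.hom := ‹QuasiCompact Z.hom›
  obtain ⟨M, hM⟩ := H19Chev.exists_isAmple_grp Z'
  refine ⟨IntermediateField.adjoin k ((unop jj.left : Finset K) : Set K), inferInstance, b, Z, PicF.cl M', M,
    ?_, hdesc @IsProper hAp, hdesc @Smooth hAs, ?_, hM,
    Rep.descend (isIso_app_curve f) p Z hz₁ A m₁ hm₁ (hzA.symm ▸ hrep)⟩
  · refine (IsFinite.SpecMap_iff _).2 ?_
    haveI : Module.Finite k (IntermediateField.adjoin k ((unop jj.left : Finset K) : Set K)) :=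
      IntermediateField.finiteDimensional_adjoin fun x _ => (Algebra.IsAlgebraic.isAlgebraic (R := k) x).isIntegral
    exact RingHom.finite_algebraMap.2 this
  · exact geometricallyIrreducible_of_baseChange _ hm₁

end Groth.Agent.H25Jac
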