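import Groth.Agent.H25Jac.Albanese
import Groth.Agent.H29Jac.PicZero
import Groth.Agent.H25AbCube.TorsionStr
import Groth.Agent.H8Props.Devissage.LocalFibre
import Groth.Agent.H12AlgSp.LqfDim
import Groth.Agent.H8Props.FieldDimEquidim
import Groth.Agent.H17.Dim
import Groth.Agent.S17805
import Groth.Agent.S4643

/-!
# The Jacobian of a curve with a rational point, with its universal class and dimension
-/

set_option autoImplicit false
set_option linter.style.haveILetI false
set_option linter.unusedSectionVars false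
set_option maxHeartbeats 1600000
set_option backward.isDefEq.respectTransparency.types false

noncomputable section

universe u

open CategoryTheory CategoryTheory.Limits AlgebraicGeometry Opposite MonoidalCategory CartesianMonoidalCategory MonObj

namespace Groth.Agent.H25Jac

open Groth.Agent.H17.PullCl Groth.Agent.H12Pic Groth.Agent.H12Pic.PicCurve Groth.Agent.H12Pic.RigPoints
open Groth.Agent.H27SymProd
open Groth.Agent.H25Theta (Cls cls pull pullU)
open Groth.Agent.H29Ell (jSub jMap)

variable {k : Type u} [Field k] {X : Scheme.{u}} {f : X ⟶ Spec (CommRingCat.of k)}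
  {σ : Spec (CommRingCat.of k) ⟶ X} {hσ : σ ≫ f = 𝟙 _}
  [IsProper f] [SmoothOfRelativeDimension 1 f] [GeometricallyConnected f]

theorem exists_jData (hX : Curve.IsSmoothProperCurve k X f) :
    ∃ (J : Over (Spec (CommRingCat.of k))) (_ : GrpObj J), IsCommMonObj J ∧ IsProper J.hom ∧ Smooth J.hom ∧
      GeometricallyIntegral J.hom ∧ Nonempty (JData f σ hσ J) := by
  classical
  haveI : Smooth f := hX.2.1
  haveI : GeometricallyIntegral f := geometricallyIntegral_curve f
  obtain ⟨J, ξ, hp, hs, hi, h0, huniv⟩ := S17805.result k X f hX.2.2.2 σ hσ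
  haveI := hp
  haveI := hs
  haveI := hi
  have hmem : IsDZ f σ hσ J ξ.1 := ⟨ξ.2.1, ξ.2.2, h0⟩
  let toF : ∀ T, (T ⟶ J) → jSub f σ hσ T := fun T a =>
    ⟨H29Jac.unitOf (hmem.pull a).1, (isDZ_iff_jSub f σ hσ _).2 (by rw [H29Jac.unitOf_val]; exact hmem.pull a)⟩
  have hinv : ∀ T (u : jSub f σ hσ T), ∃! g : T ⟶ J, PicF.pullCl (PicF.XTmap f g) ξ.1 = u.1.1 := fun T u =>
    have h := (isDZ_iff_jSub f σ hσ _).1 u.2
    huniv T ⟨_, h.1, h.2.1⟩ h.2.2
  let e : ∀ T, (T ⟶ J) ≃ jSub f σ hσ T := fun T =>
    { toFun := toF T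
      invFun := fun u => (hinv T u).choose
      left_inv := fun a => ((hinv T (toF T a)).choose_spec.2 a (H29Jac.unitOf_val (hmem.pull a).1).symm).symm
      right_inv := fun u => Subtype.ext (Units.ext ((H29Jac.unitOf_val (hmem.pull _).1).trans (hinv T u).choose_spec.1)) }
  have henat : ∀ {T T' : Over (Spec (CommRingCat.of k))} (g : T' ⟶ T) (a : T ⟶ J),
      toF T' (g ≫ a) = jMap f σ hσ g (toF T a) := fun g a => Subtype.ext (Units.ext (by
    show PicF.pullCl (PicF.XTmap f (g ≫ a)) ξ.1 = PicF.pullCl (PicF.XTmap f g) (PicF.pullCl (PicF.XTmap f a) ξ.1)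
    rw [← H17.PullCl.pullCl_comp, ← XTmap_comp]))
  let R : (H29Jac.jFunctor' f hσ ⋙ forget CommGrpCat).RepresentableBy J :=
    { homEquiv := fun {T} => e T
      homEquiv_comp := fun g a => henat g a }
  letI := CommGrpObj.ofRepresentableBy _ (H29Jac.jFunctor' f hσ) R
  haveI := H25AbCube.geometricallyConnected_of_irreducible J.hom
  refine ⟨J, inferInstance, inferInstance, hp, hs, H25AbCube.geometricallyIntegral_of_smooth J, ⟨?_⟩⟩
  refine ⟨ξ.1, hmem, fun T c hc => huniv T ⟨c, hc.1, hc.2.1⟩ hc.2.2, fun T a b => ?_⟩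
  have hm : toF (J ⊗ J) μ[J] = toF _ (fst J J) * toF _ (snd J J) := (e (J ⊗ J)).apply_symm_apply _
  have key : toF T (a * b) = toF T a * toF T b := by
    rw [Hom.mul_def, henat, hm, map_mul, ← henat, ← henat, lift_fst, lift_snd]
  exact congrArg (fun w : jSub f σ hσ T => (w.1.1 : PicF.Cl (PicF.XT f T))) key

theorem topologicalKrullDim_powOver (hdim : topologicalKrullDim X = 1) :
    ∀ n : ℕ, topologicalKrullDim ↥(powOver f n).left = n := by
  intro n
  induction n with
  | zero =>
    haveI : IsIso (powOver f 0).hom := by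
      refine ⟨⟨WidePullback.lift (𝟙 _) (fun i => i.elim0) (fun i => i.elim0), ?_, ?_⟩⟩
      · exact WidePullback.hom_ext _ _ _ (fun i => i.elim0) (by
          rw [Category.assoc, WidePullback.lift_base, Category.id_comp, Category.comp_id]
          rfl)
      · exact WidePullback.lift_base _ _ _ _
    rw [(asIso (powOver f 0).hom).hom.homeomorph.isHomeomorph.topologicalKrullDim_eq]
    haveI : Subsingleton ↥(Spec (CommRingCat.of k)) := inferInstanceAs (Subsingleton (PrimeSpectrum k))
    show topologicalKrullDim (PrimeSpectrum k) = _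
    rw [PrimeSpectrum.topologicalKrullDim_eq_ringKrullDim, ringKrullDim_eq_zero_of_field]
    rfl
  | succ n ih =>
    haveI : Smooth f := SmoothOfRelativeDimension.smooth 1 f
    haveI := (irreducibleSpace_powOver (f := f) n).2
    let e := (isPullback_restr f n).isoPullback
    show topologicalKrullDim ↥(powOver f (n + 1)).left = _
    rw [e.hom.homeomorph.isHomeomorph.topologicalKrullDim_eq,
      show topologicalKrullDim ↥(pullback (WidePullback.base (fun _ : Fin n => f)) f) = _ from
        S4643.result (powOver f n).hom f, ih, hdim]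
    norm_cast

theorem topologicalKrullDim_jacobian (hX : Curve.IsSmoothProperCurve k X f)
    {J : Over (Spec (CommRingCat.of k))} [GrpObj J] [IsCommMonObj J] [LocallyOfFiniteType J.hom]
    [GeometricallyIntegral J.hom] (D : JData f σ hσ J) :
    topologicalKrullDim J.left = (letI : X.Over (Spec (CommRingCat.of k)) := ⟨f⟩
        Module.finrank k (Coh.HH X (Coh.structureModule X) 1)) := by
  obtain ⟨aj, haj⟩ := D.exists_abel
  obtain ⟨gn, H, φ, ΦH, G, V, hV, hgn, hHs, hHp, hsurj, hfl, hlfp, hquot, -, hGne, hVH, hVr, hVo, -, -⟩ :=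
    exists_birational hX D haj
  haveI := hVo
  haveI := hHs
  haveI := hsurj
  haveI := hlfp
  haveI : IsIntegral J.left := GeometricallyIntegral.isIntegral_of_subsingleton J.hom
  haveI := (irreducibleSpace_powOver (f := f) gn).1
  haveI : IrreducibleSpace ↥H.left :=
    { isPreirreducible_univ := by
        rw [← φ.left.surjective.range_eq, ← Set.image_univ]
        exact (PreirreducibleSpace.isPreirreducible_univ).image _ φ.left.continuous.continuousOn
      toNonempty := ⟨φ.left (Classical.arbitrary _)⟩ }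
  obtain ⟨x, hx⟩ := hGne
  rw [← hVr] at hx
  obtain ⟨v, -⟩ := hx
  rw [← H8Props.Devissage.topologicalKrullDim_of_openEmbedding V.ι.isOpenEmbedding v
      (H8Props.FieldDim.localDim_eq_dim_of_irreducible J.hom _),
    H8Props.Devissage.topologicalKrullDim_of_openEmbedding hV.isOpenEmbedding v
      (H8Props.FieldDim.localDim_eq_dim_of_irreducible H.hom _), ← hgn,
    ← topologicalKrullDim_powOver (f := f) hX.2.2.2 gn]
  haveI : IsIntegralHom φ.left := H18Quot.isIntegralHom hquot
  haveI : IsFinite φ.left := (IsFinite.iff_isIntegralHom_and_locallyOfFiniteType φ.left).2 ⟨inferInstance, inferInstance⟩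
  exact le_antisymm
    (H17.topologicalKrullDim_le_of_specializingMap φ.left φ.left.isClosedMap.specializingMap φ.left.surjective)
    (H12AlgSp.topologicalKrullDim_le_of_lqf φ.left)

end Groth.Agent.H25Jac
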