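import Groth.Agent.H25Jac.Coarse
import Groth.Agent.H25Jac.Jacobian
import Groth.Agent.H29DoubleCover.Connected

/-!
# The Albanese property of a coarse Jacobian
-/

set_option autoImplicit false
set_option linter.style.haveILetI false
set_option linter.unusedSectionVars false
set_option maxHeartbeats 1600000
set_option backward.isDefEq.respectTransparency.types false

noncomputable section

universe u

open CategoryTheory CategoryTheory.Limits AlgebraicGeometry Opposite MonoidalCategory CartesianMonoidalCategory MonObj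

namespace Groth.Agent.H25Jac

open Groth.Agent.H12Pic Groth.Agent.H12Pic.PicCurve

variable {k : Type u} [Field k] {X : Scheme.{u}} (f : X ⟶ Spec (CommRingCat.of k)) [IsProper f] [Smooth f]
  [GeometricallyConnected f]

theorem isSmoothProperCurve_of_connected (hdim : topologicalKrullDim X = 1) :
    Curve.IsSmoothProperCurve k X f ∧ SmoothOfRelativeDimension 1 f := by
  haveI := H29DoubleCover.isIntegral_of_smooth_connected f
  exact ⟨⟨inferInstance, inferInstance, inferInstance, hdim⟩,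
    H27CurveDiv.smoothOfRelativeDimension_of_dim f 1 (by exact_mod_cast hdim)⟩

variable {f} {σ : Spec (CommRingCat.of k) ⟶ X} (hσ : σ ≫ f = 𝟙 _) {J : Over (Spec (CommRingCat.of k))} [GrpObj J]
  {ψ : (ModFun.PicDeg f 0).Hom ⊤ J} {j : Over.mk f ⟶ J}

include hσ in
/-- A coarse Jacobian with its Abel map is the fine one. -/
theorem exists_fine [SmoothOfRelativeDimension 1 f] (hX : Curve.IsSmoothProperCurve k X f)
    (hJ : Jac.IsJacobian f ⊤ J ψ) (hj : Jac.IsAbelJacobiAt f σ ψ j) :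
    ∃ (J₀ : Over (Spec (CommRingCat.of k))) (_ : GrpObj J₀) (D : JData f σ hσ J₀) (aj : Over.mk f ⟶ J₀)
      (χ : J ≅ J₀), IsCommMonObj J₀ ∧ IsProper J₀.hom ∧ Smooth J₀.hom ∧ GeometricallyIntegral J₀.hom ∧
      (∀ (T : Over (Spec (CommRingCat.of k))) (b : T ⟶ Over.mk f), D.xU (b ≫ aj) = ptClass f hσ b) ∧
      IsMonHom χ.hom ∧ IsMonHom χ.inv ∧ j ≫ χ.hom = aj := by
  obtain ⟨J₀, hg, hc, hp, hs, hi, ⟨D⟩⟩ := exists_jData (σ := σ) (hσ := hσ) hX
  obtain ⟨aj, haj⟩ := D.exists_abel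
  obtain ⟨χ, h1, h2, hχ⟩ := D.iso_of_isJacobian hJ
  refine ⟨J₀, hg, D, aj, χ, hc, hp, hs, hi, haj, h1, h2, ?_⟩
  obtain ⟨hT, L, hL, hAJ, rfl⟩ := hj
  rw [hχ]
  exact D.psi_ajFamily haj hAJ hL

include hσ in
theorem existsUnique_albanese_coarse (hdim : topologicalKrullDim X = 1)
    (hg : letI : X.Over (Spec (CommRingCat.of k)) := ⟨f⟩
      0 < Curv2.genus k X)
    (hJ : Jac.IsJacobian f ⊤ J ψ) (hj : Jac.IsAbelJacobiAt f σ ψ j)
    (A : Over (Spec (CommRingCat.of k))) [GrpObj A] [IsProper A.hom] [GeometricallyIntegral A.hom]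
    (φ : Over.mk f ⟶ A) (hφ : σ ≫ φ.left = η[A].left) :
    ∃! χ : J ⟶ A, IsMonHom χ ∧ j ≫ χ = φ := by
  obtain ⟨hX, hrel⟩ := isSmoothProperCurve_of_connected f hdim
  haveI := hrel
  obtain ⟨J₀, hg₀, D, aj, e, hc, hp, hs, hi, haj, h1, h2, hje⟩ := exists_fine hσ hX hJ hj
  haveI := hc; haveI := hp; haveI := hs; haveI := hi; haveI := h1; haveI := h2
  have h0 : constPt f hσ (𝟙_ _) ≫ φ = η[A] := Over.OverMorphism.ext (by
    show ((𝟙_ (Over (Spec (CommRingCat.of k)))).hom ≫ σ) ≫ φ.left = _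
    exact (congrArg (· ≫ φ.left) (Category.id_comp σ)).trans hφ)
  obtain ⟨α, ⟨hα, hαφ⟩, huniq⟩ := existsUnique_albanese hX hg haj A φ h0
  haveI := hα
  refine ⟨e.hom ≫ α, ⟨inferInstance, by rw [← Category.assoc, hje, hαφ]⟩, fun β ⟨hβ, hβφ⟩ => ?_⟩
  haveI := hβ
  rw [← huniq (e.inv ≫ β) ⟨inferInstance, by rw [← hje, Category.assoc, Iso.hom_inv_id_assoc, hβφ]⟩,
    Iso.hom_inv_id_assoc]

end Groth.Agent.H25Jac
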