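import Groth.Agent.H25Jac.CoarseAlbanese

/-!
# Families of degree zero classes and morphisms to a coarse Jacobian with a universal family
-/

set_option autoImplicit false
set_option linter.style.haveILetI false
set_option linter.unusedSectionVars false
set_option maxHeartbeats 1600000
set_option backward.isDefEq.respectTransparency.types false

noncomputable section

universe u

open CategoryTheory CategoryTheory.Limits AlgebraicGeometry Opposite MonoidalCategory CartesianMonoidalCategory MonObj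

namespace Groth.Agent.H25Jac

open Groth.Agent.H17.PullCl Groth.Agent.H12Pic Groth.Agent.H12Pic.PicCurve Groth.Agent.H12Pic.RigPoints
open Groth.Agent.H25Theta (Cls cls pull pullU unitCls pb)

attribute [local instance] fibreOverField

variable {X S : Scheme.{u}} {f : X ⟶ S} {σ : S ⟶ X} {hσ : σ ≫ f = 𝟙 S}
  [IsProper f] [SmoothOfRelativeDimension 1 f] [GeometricallyConnected f]

/-- Degree zero at one point of a connected base is degree zero everywhere. -/
theorem degAt_eq_zero_of_trivial_at {T T₀ : Over S} [PreconnectedSpace ↥T.left] [Nonempty ↥T₀.left] (p : T₀ ⟶ T)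
    {L : (PicF.XT f T).Modules} (hL : PicF.IsInvertible L)
    (h : PicF.IsTrivialCl (PicF.pullCl (PicF.XTmap f p) (PicF.cl L))) (t : T.left) : degAt f T L t = 0 := by
  obtain ⟨_, _, _⟩ := family_facts f T
  haveI : Smooth (PicF.XTproj f T) := SmoothOfRelativeDimension.smooth 1 _
  have hd : ∀ s, topologicalKrullDim ((PicF.XTproj f T).fiber s) ≤ 1 := fun s =>
    (fibre_of_geometricallyConnected (PicF.XTproj f T) s).2
  have hlc : IsLocallyConstant (degAt f T L) :=
    (isLocallyConstant_rankDiff (PicF.XTproj f T) hd hL).comp₂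
      (isLocallyConstant_rankDiff (PicF.XTproj f T) hd (H11Ample.isInvertible_structureModule (X := PicF.XT f T))) (· - ·)
  let t₀ : T₀.left := Classical.arbitrary _
  rw [hlc.apply_eq_of_preconnectedSpace t (p.left t₀), ← degAt_pullback f p hL]
  obtain ⟨e⟩ := Sep.iso_of_cl_eq (L := pb (PicF.XTmap f p) L) (L' := Coh.structureModule _) h
  rw [degAt_congr f e]
  exact sub_self _

variable {J₀ : Over S} [GrpObj J₀] {D : JData f σ hσ J₀} {J : Over S} [GrpObj J]
  {ψ : (ModFun.PicDeg f 0).Hom ⊤ J} {Pu : (PicF.XT f J).Modules}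

theorem xU_comp_iso {χ : J ≅ J₀}
    (hχ : ∀ (T : Over S) (L : (PicF.XT f T).Modules) hT hx, ψ.app T L hT hx ≫ χ.hom = D.psi.app T L hT hx)
    (hok : (ModFun.PicDeg f 0).ok J Pu) (hPn : Jac.IsNormAlong f σ hσ J Pu)
    (hPuψ : ψ.app J Pu trivial hok = 𝟙 J) {T : Over S} (a : T ⟶ J) :
    D.xU (a ≫ χ.hom) = pullU (PicF.XTmap f a) (unitCls ((ok_iff J Pu).1 hok).1) := by
  rw [← D.xU_comp]
  congr 1
  rw [← Category.id_comp χ.hom, ← hPuψ, hχ, D.xU_psi,
    H29Ell.norm_eq_self f σ hσ J (unitCls ((ok_iff J Pu).1 hok).1) (Units.ext hPn)]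

variable {k : Type u} [Field k]

theorem isProper_of_iso {J₁ J₂ : Over (Spec (CommRingCat.of k))} (e : J₁ ≅ J₂) [IsProper J₂.hom] : IsProper J₁.hom := by
  rw [← Over.w e.hom]
  infer_instance

theorem geometricallyIntegral_of_iso {J₁ J₂ : Over (Spec (CommRingCat.of k))} (e : J₁ ≅ J₂)
    [GeometricallyIntegral J₂.hom] : GeometricallyIntegral J₁.hom := by
  rw [← Over.w e.hom]
  exact (MorphismProperty.cancel_left_of_respectsIso @GeometricallyIntegral e.hom.left J₂.hom).2 inferInstance

end Groth.Agent.H25Jac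

namespace Groth.Agent.H25Jac

open Groth.Agent.H17.PullCl Groth.Agent.H12Pic Groth.Agent.H12Pic.PicCurve Groth.Agent.H12Pic.RigPoints
open Groth.Agent.H25Theta (Cls cls pull pullU unitCls pb)

variable {X S : Scheme.{u}} {f : X ⟶ S} {σ : S ⟶ X}
  [IsProper f] [SmoothOfRelativeDimension 1 f] [GeometricallyConnected f]

/-- The normalised class of `O(Δ - X × P - P × X)` is the class of the Abel map. -/
theorem norm_symmetric_diagonal (hσ : σ ≫ f = 𝟙 S) {LP : (PicF.XT f (Over.mk f)).Modules} (hLPi : PicF.IsInvertible LP)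
    (hLP : Nonempty (CohB1.tensorMod LP (ClSub.idealMod (pullback.diagonal f).ker) ≅
      CohB1.tensorMod ((Scheme.Modules.pullback (pullback.fst f f)).obj (ClSub.idealMod σ.ker))
        ((Scheme.Modules.pullback (pullback.snd f f)).obj (ClSub.idealMod σ.ker)))) :
    H29Ell.norm f σ hσ (Over.mk f) (unitCls hLPi) = ptClass f hσ (𝟙 (Over.mk f)) := by
  obtain ⟨e⟩ := hLP
  let T := Over.mk f
  have hσe : BlowUp.IsEffCartierIdeal σ.ker := H12Pic.CurveFam.isEffCartierIdeal_section f σ hσ
  let uσ := idU σ.ker hσe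
  let c₁ := constPt f hσ (𝟙_ (Over S))
  haveI : IsClosedImmersion (σ ≫ f) := by rw [hσ]; infer_instance
  let g : PicF.XT f (𝟙_ (Over S)) ⟶ X := pullback.fst f (𝟙_ (Over S)).hom
  have hk : σ.ker.comap g = (sec f c₁).ker :=
    comap_ker_lift (IsPullback.of_hasPullback f (𝟙_ (Over S)).hom) σ hσ (sec f c₁) (sec_proj f c₁) (sec_fst f c₁)
  have hc : secU f (constPt f hσ T) = pullU (pullback.fst f f) uσ := by
    rw [← comp_constPt f hσ (toUnit T), ← pullU_secU]
    have h2 : pullU g uσ = secU f c₁ := by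
      rw [pullU_idU g hσe (hk ▸ isEffCartier_sec f c₁), idU_congr hk _ (isEffCartier_sec f c₁)]
      rfl
    rw [← h2, H25Theta.pullU_pullU]
    exact congrArg (fun m => pullU m uσ) (XTmap_fst f (toUnit T))
  have hu : unitCls hLPi * secU f (𝟙 T) = secU f (constPt f hσ T) * pullU (PicF.XTproj f T) uσ := by
    rw [hc]
    refine Units.ext ?_
    show cls LP * (idU (sec f (𝟙 T)).ker _).1 = _
    rw [idU_congr (congrArg Scheme.Hom.ker (sec_id (f := f))) _ (sec_id (f := f) ▸ isEffCartier_sec f (𝟙 T))]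
    exact Quot.sound ⟨e⟩
  have hn := congrArg (H29Ell.norm f σ hσ T) (eq_mul_inv_of_mul_eq hu)
  rw [map_mul, map_mul, H29Ell.norm_base, _root_.mul_one, map_inv] at hn
  rw [hn, ptClass, map_mul, map_inv, mul_comm]

end Groth.Agent.H25Jac
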