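import Groth.Agent.H25Jac.Jacobian
import Groth.Agent.H12Pic.PicCurve.AbelMap
import Mathlib.AlgebraicGeometry.ZariskisMainTheorem

/-!
# The Abel map of a curve of positive genus is a closed immersion
-/

set_option autoImplicit false
set_option linter.style.haveILetI false
set_option linter.unusedSectionVars false
set_option maxHeartbeats 1600000
set_option backward.isDefEq.respectTransparency.types false

noncomputable section

universe u

open CategoryTheory CategoryTheory.Limits AlgebraicGeometry Opposite MonoidalCategory CartesianMonoidalCategory MonObj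

namespace Groth.Agent.H25Jac

open Groth.Agent.H17.PullCl Groth.Agent.H12Pic Groth.Agent.H12Pic.PicCurve Groth.Agent.H12Pic.RigPoints
open Groth.Agent.H25Theta (Cls cls pull pullU unitCls pb pC pI tI)

attribute [local instance] fibreOverField

variable {k : Type u} [Field k] {X : Scheme.{u}} {f : X ⟶ Spec (CommRingCat.of k)}
  {σ : Spec (CommRingCat.of k) ⟶ X} {hσ : σ ≫ f = 𝟙 _}
  [IsProper f] [SmoothOfRelativeDimension 1 f] [GeometricallyConnected f]

/-- The class of an invertible module is trivial on a small open. -/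
theorem exists_opens_pullU_eq_one {Y : Scheme.{u}} {L : Y.Modules} (hL : PicF.IsInvertible L) (y : Y) :
    ∃ U : Y.Opens, y ∈ U ∧ ∀ W : Y.Opens, W ≤ U → pullU W.ι (unitCls hL) = 1 := by
  obtain ⟨U, hy, ⟨e⟩⟩ := hL y
  refine ⟨U, hy, fun W hW => Units.ext (Quot.sound ⟨?_⟩)⟩
  exact (pC (Y.homOfLE hW) U.ι (Scheme.homOfLE_ι Y hW) L).symm ≪≫
    (Scheme.Modules.pullback _).mapIso (((Scheme.Modules.restrictFunctorIsoPullback U.ι).app L).symm ≪≫ e) ≪≫
    PicLoc.pullbackStructureIso _

theorem one_le_fiberRank (hg : letI : X.Over (Spec (CommRingCat.of k)) := ⟨f⟩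
      0 < Module.finrank k (Coh.HH X (Coh.structureModule X) 1)) (T : Over (Spec (CommRingCat.of k))) (z : T.left) :
    1 ≤ CohIII.fiberRank (PicF.XTproj f T) (Coh.structureModule _) 1 z := by
  letI : X.Over (Spec (CommRingCat.of k)) := ⟨f⟩
  haveI : Subsingleton ↥(Spec (CommRingCat.of k)) := inferInstanceAs (Subsingleton (PrimeSpectrum k))
  have h0 : ∀ s, CohIII.fiberRank f (Coh.structureModule X) 1 s = Module.finrank k (Coh.HH X (Coh.structureModule X) 1) :=
    fun s => by
      have h2 := finrank_HH_point f (H11Ample.isInvertible_structureModule (X := X)) (K := k) (Y' := X) (𝟙 _) (g' := 𝟙 _)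
        (IsPullback.of_horiz_isIso ⟨(Category.id_comp _).trans (Category.comp_id _).symm⟩) 1
      rw [(H29RR.hhIso (k := k) ((Scheme.Modules.pullbackId _).app _) 1).finrank_eq] at h2
      rw [Subsingleton.elim s ((𝟙 (Spec (CommRingCat.of k)) : _ ⟶ _) (IsLocalRing.closedPoint k))]
      exact h2.symm
  have h := fiberRank_pullback f (H11Ample.isInvertible_structureModule (X := X))
    (IsPullback.of_hasPullback f T.hom) 1 z
  refine le_trans (h0 (T.hom z) ▸ hg) (le_of_eq ?_)
  rw [← h]
  exact (H29RR.hhIso (k := T.left.residueField z) ((Scheme.Modules.pullback _).mapIso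
    (H16Derived.KFlat.Stalk.structurePullbackIso (pullback.fst f T.hom))) 1).finrank_eq

theorem eq_of_ptClass_eq (hg : letI : X.Over (Spec (CommRingCat.of k)) := ⟨f⟩
      0 < Module.finrank k (Coh.HH X (Coh.structureModule X) 1))
    {T : Over (Spec (CommRingCat.of k))} {a b : T ⟶ Over.mk f} (h : ptClass f hσ a = ptClass f hσ b) : a = b := by
  haveI : Smooth f := SmoothOfRelativeDimension.smooth 1 f
  have hn : H29Ell.norm f σ hσ T (secU f a) = H29Ell.norm f σ hσ T (secU f b) := by
    simpa [ptClass] using h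
  rw [H29Ell.norm_apply, H29Ell.norm_apply] at hn
  have hia := H11Ample.isInvertible_pullback (PicF.secT f σ hσ T) (isInvertible_sec f a)
  have hib := H11Ample.isInvertible_pullback (PicF.secT f σ hσ T) (isInvertible_sec f b)
  have hva : pullU (PicF.secT f σ hσ T) (secU f a) = unitCls hia := Units.ext rfl
  have hvb : pullU (PicF.secT f σ hσ T) (secU f b) = unitCls hib := Units.ext rfl
  choose U hU hUa using exists_opens_pullU_eq_one hia
  choose W hW hWb using exists_opens_pullU_eq_one hib
  refine Over.OverMorphism.ext (Scheme.Cover.hom_ext (T.left.openCoverOfIsOpenCover (fun t => U t ⊓ W t)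
    (eq_top_iff.2 fun t _ => TopologicalSpace.Opens.mem_iSup.2 ⟨t, hU t, hW t⟩)) _ _ fun t => ?_)
  show (U t ⊓ W t).ι ≫ a.left = (U t ⊓ W t).ι ≫ b.left
  let q := AbDual.ovrHom T (U t ⊓ W t).ι
  let T' := AbDual.ovr T (U t ⊓ W t).ι
  have h1 := congrArg (pullU (PicF.XTmap f q)) hn
  have hq : ∀ m : (Cls T.left)ˣ, pullU (U t ⊓ W t).ι m = 1 →
      pullU (PicF.XTmap f q) (pullU (PicF.XTproj f T) m) = 1 := fun m hm => by
    rw [H25Theta.pullU_pullU, XTmap_snd, ← H25Theta.pullU_pullU]
    exact (congrArg (pullU _) hm).trans (map_one _)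
  rw [map_div, map_div, hva, hvb, hq _ (hUa t _ inf_le_left), hq _ (hWb t _ inf_le_right), div_one, div_one,
    pullU_secU, pullU_secU] at h1
  obtain ⟨e⟩ := Sep.iso_of_cl_eq (L := ClSub.idealMod (sec f (q ≫ a)).ker) (L' := ClSub.idealMod (sec f (q ≫ b)).ker)
    (congrArg Units.val h1)
  obtain ⟨_, _, _⟩ := family_facts f T'
  obtain ⟨N, hN, ⟨eN⟩⟩ := H11Sym.exists_inverse (isInvertible_sec f (q ≫ a))
  have hs : sec f (q ≫ a) = sec f (q ≫ b) :=
    section_eq_of_iso (PicF.XTproj f T') (one_le_fiberRank hg T') (sec_proj f _) (sec_proj f _) hN eN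
      (tI (Iso.refl N) e.symm ≪≫ eN)
  have := congrArg (· ≫ pullback.fst f T'.hom) hs
  exact (sec_fst f (q ≫ a)).symm.trans (this.trans (sec_fst f (q ≫ b)))

variable {J : Over (Spec (CommRingCat.of k))} [GrpObj J] [IsSeparated J.hom] {D : JData f σ hσ J}
  {aj : Over.mk f ⟶ J}

theorem isClosedImmersion_abel (hg : letI : X.Over (Spec (CommRingCat.of k)) := ⟨f⟩
      0 < Module.finrank k (Coh.HH X (Coh.structureModule X) 1))
    (haj : ∀ (T : Over (Spec (CommRingCat.of k))) (b : T ⟶ Over.mk f), D.xU (b ≫ aj) = ptClass f hσ b) :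
    IsClosedImmersion aj.left := by
  refine (IsClosedImmersion.iff_isProper_and_mono aj.left).2 ⟨?_, ⟨fun {Z} x y hxy => ?_⟩⟩
  · haveI : IsProper (aj.left ≫ J.hom) := by rw [Over.w aj]; exact ‹IsProper f›
    exact IsProper.of_comp aj.left J.hom
  · let T : Over (Spec (CommRingCat.of k)) := Over.mk (x ≫ f)
    have hy : y ≫ f = x ≫ f := by
      have h := congr($hxy ≫ J.hom)
      rw [Category.assoc, Category.assoc, Over.w aj] at h
      exact h.symm
    let a : T ⟶ Over.mk f := Over.homMk x rfl
    let b : T ⟶ Over.mk f := Over.homMk y hy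
    have hab : a ≫ aj = b ≫ aj := Over.OverMorphism.ext hxy
    exact congrArg CommaMorphism.left (eq_of_ptClass_eq (hσ := hσ) hg ((haj T a).symm.trans ((congrArg D.xU hab).trans (haj T b))))

end Groth.Agent.H25Jac
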