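import Groth.Agent.H25Jac.Coarse

/-!
# Line bundles of a given degree on a pointed family of curves
-/

set_option autoImplicit false
set_option linter.style.haveILetI false
set_option linter.unusedSectionVars false
set_option maxHeartbeats 1600000
set_option backward.isDefEq.respectTransparency.types false

noncomputable section

universe u

open CategoryTheory CategoryTheory.Limits AlgebraicGeometry Opposite MonoidalCategory CartesianMonoidalCategory MonObj

namespace Groth.Agent.H25Jac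

open Groth.Agent.H17.PullCl Groth.Agent.H12Pic Groth.Agent.H12Pic.PicCurve Groth.Agent.H12Pic.RigPoints
open Groth.Agent.H25Theta (Cls cls pull pullU unitCls pb pC pI tI pT pO)

attribute [local instance] fieldPointOver

variable {X S : Scheme.{u}} {f : X ⟶ S} [IsProper f] [SmoothOfRelativeDimension 1 f] [GeometricallyConnected f]

theorem fibDeg_pullback {m : ℤ} {T T' : Over S} (g : T' ⟶ T) {L : (PicF.XT f T).Modules}
    (hL : PicF.IsInvertible L) (h : ModFun.FibDeg f 1 m T L) : ModFun.FibDeg f 1 m T' (pb (PicF.XTmap f g) L) := by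
  intro Ω _ _ τ
  let a : Over.mk (τ ≫ T'.hom) ⟶ T' := Over.homMk τ rfl
  let b : Over.mk ((τ ≫ g.left) ≫ T.hom) ⟶ T := Over.homMk (τ ≫ g.left) rfl
  have hw : τ ≫ T'.hom = (τ ≫ g.left) ≫ T.hom := by rw [Category.assoc, Over.w g]
  let i : Over.mk (τ ≫ T'.hom) ⟶ Over.mk ((τ ≫ g.left) ≫ T.hom) := Over.homMk (𝟙 _) ((Category.id_comp _).trans hw.symm)
  have hb : Curv2.deg Ω _ (pb (PicF.XTmap f b) L) 1 = m := h Ω (τ ≫ g.left)
  have hM := H11Ample.isInvertible_pullback (PicF.XTmap f b) hL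
  rw [← degAt_point f ((τ ≫ g.left) ≫ T.hom) hM (i.left (IsLocalRing.closedPoint Ω)),
    ← degAt_pullback f i hM, degAt_point f (τ ≫ T'.hom) (H11Ample.isInvertible_pullback _ hM)] at hb
  refine Eq.trans ?_ hb
  show Curv2.deg Ω _ (pb (PicF.XTmap f a) (pb (PicF.XTmap f g) L)) 1 = _
  obtain ⟨hp, _, _, _, _⟩ := xtPoint_facts f (τ ≫ T'.hom)
  have hai : a ≫ g = i ≫ b := Over.OverMorphism.ext (Category.id_comp _).symm
  exact H29RR.deg_congr (k := Ω) (pC _ _ (Sep.XTmap_comp f a g).symm L ≪≫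
    (Scheme.Modules.pullbackCongr (congrArg (PicF.XTmap f) hai)).app L ≪≫
    (pC _ _ (Sep.XTmap_comp f i b).symm L).symm)

theorem fibDeg_congr {m : ℤ} {T : Over S} {L L' : (PicF.XT f T).Modules} (e : L ≅ L')
    (h : ModFun.FibDeg f 1 m T L) : ModFun.FibDeg f 1 m T L' := by
  intro Ω _ _ τ
  obtain ⟨hp, _, _, _, _⟩ := xtPoint_facts f (τ ≫ T.hom)
  refine Eq.trans ?_ (h Ω τ)
  exact H29RR.deg_congr (k := Ω) ((Scheme.Modules.pullback _).mapIso e.symm)

theorem fibDeg_tensor {m n : ℤ} {T : Over S} {L M : (PicF.XT f T).Modules} (hL : PicF.IsInvertible L)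
    (hM : PicF.IsInvertible M) (h : ModFun.FibDeg f 1 m T L) (h' : ModFun.FibDeg f 1 n T M) :
    ModFun.FibDeg f 1 (m + n) T (CohB1.tensorMod L M) := by
  intro Ω _ _ τ
  let a : Over.mk (τ ≫ T.hom) ⟶ T := Over.homMk τ rfl
  obtain ⟨hp, _, _, _, hd⟩ := xtPoint_facts f (τ ≫ T.hom)
  show Curv2.deg Ω _ (pb (PicF.XTmap f a) _) 1 = _
  rw [H29RR.deg_congr (k := Ω) (pT (PicF.XTmap f a) L M),
    H29RR.deg_tensor hd.le (H11Ample.isInvertible_pullback _ hL) (H11Ample.isInvertible_pullback _ hM)]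
  exact congrArg₂ (· + ·) (h Ω τ) (h' Ω τ)

theorem fibDeg_structure (T : Over S) : ModFun.FibDeg f 1 0 T (Coh.structureModule _) := by
  intro Ω _ _ τ
  let a : Over.mk (τ ≫ T.hom) ⟶ T := Over.homMk τ rfl
  obtain ⟨hp, _, _, _, _⟩ := xtPoint_facts f (τ ≫ T.hom)
  show Curv2.deg Ω _ (pb (PicF.XTmap f a) _) 1 = _
  rw [H29RR.deg_congr (k := Ω) (pO (PicF.XTmap f a)), H29RR.deg_structureModule]

theorem fibDeg_tensorPow {m : ℤ} {T : Over S} {L : (PicF.XT f T).Modules} (hL : PicF.IsInvertible L)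
    (h : ModFun.FibDeg f 1 m T L) : ∀ n : ℕ, ModFun.FibDeg f 1 (n * m) T (CohB1.tensorPow L n)
  | 0 => by simpa [CohB1.tensorPow] using fibDeg_structure T
  | n + 1 => by
    have := fibDeg_tensor (H11Ample.isInvertible_tensorPow hL n) hL (fibDeg_tensorPow hL h n) h
    rw [show ((n : ℤ) * m + m) = ((n + 1 : ℕ) : ℤ) * m by push_cast; ring] at this
    exact this

theorem unitCls_tensorPow {Y : Scheme.{u}} {L : Y.Modules} (hL : PicF.IsInvertible L) :
    ∀ (n : ℕ) (hn : PicF.IsInvertible (CohB1.tensorPow L n)), unitCls hn = unitCls hL ^ n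
  | 0, hn => by rw [pow_zero]; exact Units.ext rfl
  | n + 1, hn => by
    rw [pow_succ, ← unitCls_tensorPow hL n (H11Ample.isInvertible_tensorPow hL n)]
    exact Units.ext rfl

variable (f) {σ : S ⟶ X} (hσ : σ ≫ f = 𝟙 S)

theorem fibDeg_ideal_sec {T : Over S} (b : T ⟶ Over.mk f) :
    ModFun.FibDeg f 1 (-1) T (ClSub.idealMod (sec f b).ker) := by
  intro Ω _ _ τ
  let a : Over.mk (τ ≫ T.hom) ⟶ T := Over.homMk τ rfl
  obtain ⟨hp, _, _, _, _⟩ := xtPoint_facts f (τ ≫ T.hom)
  obtain ⟨e⟩ := pullback_sec f a b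
  show Curv2.deg Ω _ (pb (PicF.XTmap f a) _) 1 = _
  rw [H29RR.deg_congr (k := Ω) e]
  exact deg_ideal_sec f (τ ≫ T.hom) _

/-- Modules of degree plus and minus one attached to the base point. -/
theorem exists_twist_mods (n : ℕ) (T : Over S) : ∃ (N I : (PicF.XT f T).Modules) (hN : PicF.IsInvertible N)
    (hI : PicF.IsInvertible I), ModFun.FibDeg f 1 n T N ∧ ModFun.FibDeg f 1 (-(n : ℤ)) T I ∧
      unitCls hI = secU f (constPt f hσ T) ^ n ∧ unitCls hN = (secU f (constPt f hσ T))⁻¹ ^ n := by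
  have hI := isInvertible_sec f (constPt f hσ T)
  obtain ⟨N, hN, ⟨eN⟩⟩ := H11Sym.exists_inverse hI
  have hNu : unitCls hN = (secU f (constPt f hσ T))⁻¹ :=
    eq_inv_of_mul_eq_one_left (Units.ext (Quot.sound ⟨eN⟩))
  have hNd : ModFun.FibDeg f 1 1 T N := by
    intro Ω _ _ τ
    let a : Over.mk (τ ≫ T.hom) ⟶ T := Over.homMk τ rfl
    obtain ⟨hp, _, _, _, hd⟩ := xtPoint_facts f (τ ≫ T.hom)
    haveI := H29RR.isNoetherian_of_proper (k := Ω) (X := PicF.XT f (Over.mk (τ ≫ T.hom)))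
    have h := H29RR.deg_congr (k := Ω) ((pT (PicF.XTmap f a) N _).symm ≪≫
      (Scheme.Modules.pullback _).mapIso eN ≪≫ pO _)
    rw [H29RR.deg_tensor hd.le (H11Ample.isInvertible_pullback _ hN) (H11Ample.isInvertible_pullback _ hI),
      H29RR.deg_structureModule] at h
    have h2 : Curv2.deg Ω (PicF.XT f (Over.mk (τ ≫ T.hom)))
        (pb (PicF.XTmap f a) (ClSub.idealMod (sec f (constPt f hσ T)).ker)) 1 = -1 :=
      fibDeg_ideal_sec f (constPt f hσ T) Ω τ
    exact (eq_neg_of_add_eq_zero_left h).trans ((congrArg Neg.neg h2).trans (neg_neg 1))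
  have hn1 : ((n : ℤ) * 1) = n := mul_one _
  have hn2 : ((n : ℤ) * -1) = -(n : ℤ) := mul_neg_one _
  refine ⟨CohB1.tensorPow N n, CohB1.tensorPow _ n, H11Ample.isInvertible_tensorPow hN n,
    H11Ample.isInvertible_tensorPow hI n, hn1 ▸ fibDeg_tensorPow hN hNd n,
    hn2 ▸ fibDeg_tensorPow hI (fibDeg_ideal_sec f (constPt f hσ T)) n, ?_, ?_⟩
  · rw [unitCls_tensorPow hI]; rfl
  · rw [unitCls_tensorPow hN, hNu]

variable {f} {hσ} {J : Over S} [GrpObj J]

theorem invertible_of_ok {m : ℤ} {T : Over S} {L : (PicF.XT f T).Modules} (h : (ModFun.PicDeg f m).ok T L) :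
    PicF.IsInvertible L :=
  H26PicSq.isInvertible_of_rank_one h.1.2

theorem ok_of_fibDeg {m : ℤ} {T : Over S} {L : (PicF.XT f T).Modules} (hL : PicF.IsInvertible L)
    (h : ModFun.FibDeg f 1 m T L) : (ModFun.PicDeg f m).ok T L :=
  ⟨⟨trivial, H26PicSq.isFinLocFreeOfRank_one hL⟩, h⟩

theorem norm_shift_isDZ {n : ℕ} {T : Over S} {L : (PicF.XT f T).Modules} (h : (ModFun.PicDeg f (n : ℤ)).ok T L) :
    IsDZ f σ hσ T (H29Ell.norm f σ hσ T (unitCls (invertible_of_ok h) * secU f (constPt f hσ T) ^ n)).1 := by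
  obtain ⟨N, I, hN, hI, -, hId, hIu, -⟩ := exists_twist_mods f hσ n T
  have hLI : PicF.IsInvertible (CohB1.tensorMod L I) := H11Ample.isInvertible_tensor (invertible_of_ok h) hI
  have hd := fibDeg_tensor (invertible_of_ok h) hI h.2 hId
  rw [add_neg_cancel] at hd
  have h0 : (ModFun.PicDeg f 0).ok T (CohB1.tensorMod L I) := ok_of_fibDeg hLI hd
  have e : unitCls (invertible_of_ok h) * secU f (constPt f hσ T) ^ n = unitCls ((ok_iff T _).1 h0).1 := by
    rw [← hIu]
    exact Units.ext rfl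
  rw [e]
  exact norm_mem_isDZ h0

/-- The classifying map of line bundles of degree `n`. -/
def JData.psiDeg (D : JData f σ hσ J) (n : ℕ) : (ModFun.PicDeg f (n : ℤ)).Hom ⊤ J where
  app T L _ hx := (D.exists_of_isDZ _ (norm_shift_isDZ hx)).choose
  natural {T T'} g L _ _ hx hx' := by
    refine D.xU_injective ?_
    rw [(D.exists_of_isDZ _ (norm_shift_isDZ hx')).choose_spec, ← D.xU_comp,
      (D.exists_of_isDZ _ (norm_shift_isDZ hx)).choose_spec, H29Ell.norm_natural, map_mul (pullU _),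
      map_pow, pullU_constPt]
    exact congrArg _ (congrArg (· * _) (Units.ext rfl))
  resp {T} L L' _ hx hy h := by
    obtain ⟨M, hM, ⟨e⟩⟩ := h
    refine D.xU_injective ?_
    rw [(D.exists_of_isDZ _ (norm_shift_isDZ hx)).choose_spec, (D.exists_of_isDZ _ (norm_shift_isDZ hy)).choose_spec]
    have e' : unitCls (invertible_of_ok hy) = unitCls (invertible_of_ok hx) * pullU (PicF.XTproj f T) (unitCls hM) :=
      Units.ext (Quot.sound ⟨e⟩)
    rw [e', mul_right_comm, map_mul _ (unitCls (invertible_of_ok hx) * _), H29Ell.norm_base, _root_.mul_one]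

theorem JData.xU_psiDeg (D : JData f σ hσ J) (n : ℕ) (T : Over S) (L : (PicF.XT f T).Modules) (hT) (hx) :
    D.xU ((D.psiDeg n).app T L hT hx) =
      H29Ell.norm f σ hσ T (unitCls (invertible_of_ok hx) * secU f (constPt f hσ T) ^ n) :=
  (D.exists_of_isDZ _ (norm_shift_isDZ hx)).choose_spec

/-- The universal line bundle of degree `n`. -/
theorem JData.exists_univDeg (D : JData f σ hσ J) (n : ℕ) :
    ∃ ξ : (PicF.XT f J).Modules, ModFun.IsUnivFamily ⊤ (ModFun.PicDeg f (n : ℤ)) J ξ ∧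
      ∀ hx, (D.psiDeg n).app J ξ trivial hx = 𝟙 J := by
  obtain ⟨Lu, hxu, hLu, -⟩ := D.exists_univMod
  obtain ⟨N, I, hN, hI, hNd, -, -, hNu⟩ := exists_twist_mods f hσ n J
  have hξi : PicF.IsInvertible (CohB1.tensorMod Lu N) := H11Ample.isInvertible_tensor ((ok_iff J Lu).1 hxu).1 hN
  have hξd := fibDeg_tensor ((ok_iff J Lu).1 hxu).1 hN hxu.2 hNd
  rw [zero_add] at hξd
  have hok : (ModFun.PicDeg f (n : ℤ)).ok J (CohB1.tensorMod Lu N) := ok_of_fibDeg hξi hξd
  have hpull : ∀ (T : Over S) (g : T ⟶ J) (hg : PicF.IsInvertible (pb (PicF.XTmap f g) (CohB1.tensorMod Lu N))),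
      unitCls hg = D.xU g * (secU f (constPt f hσ T))⁻¹ ^ n := fun T g hg => by
    refine Eq.trans (b := pullU (PicF.XTmap f g) (unitCls hξi)) (Units.ext rfl) ?_
    rw [show unitCls hξi = unitCls ((ok_iff J Lu).1 hxu).1 * unitCls hN from Units.ext rfl, map_mul, hLu, hNu,
      D.xU_comp, Category.comp_id, map_pow, map_inv, pullU_constPt]
  have hnorm : ∀ (T : Over S) (g : T ⟶ J), H29Ell.norm f σ hσ T (D.xU g) = D.xU g := fun T g =>
    H29Ell.norm_eq_self f σ hσ T (D.xU g) (Units.ext (D.mem.pull g).2.1)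
  refine ⟨_, ⟨hok, fun T x _ hx => ?_⟩, fun hx => D.xU_injective ?_⟩
  · have hx' : ∀ g : T ⟶ J, PicF.IsInvertible (pb (PicF.XTmap f g) (CohB1.tensorMod Lu N)) := fun g =>
      H11Ample.isInvertible_pullback _ hξi
    let a := (D.psiDeg n).app T x trivial hx
    have ha := D.xU_psiDeg n T x trivial hx
    refine ⟨a, ?_, fun g hg => ?_⟩
    · have hLI := invertible_of_ok hx
      obtain ⟨-, I, -, hI, -, -, hIu, -⟩ := exists_twist_mods f hσ n T
      have hxI : PicF.IsInvertible (CohB1.tensorMod x I) := H11Ample.isInvertible_tensor hLI hI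
      refine ⟨_, H11Ample.isInvertible_pullback (PicF.secT f σ hσ T) hxI, ?_⟩
      refine Sep.iso_of_cl_eq (L := x) (congrArg Units.val (show unitCls hLI = unitCls (hx' a) *
        pullU (PicF.XTproj f T) (pullU (PicF.secT f σ hσ T) (unitCls hxI)) from ?_))
      rw [hpull, ha, H29Ell.norm_apply, show unitCls hxI = unitCls hLI * secU f (constPt f hσ T) ^ n by
        rw [← hIu]; exact Units.ext rfl, inv_pow, mul_right_comm, div_mul_cancel, mul_inv_cancel_right]
    · obtain ⟨M, hM, ⟨e⟩⟩ := hg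
      refine D.xU_injective ?_
      rw [ha, show unitCls (invertible_of_ok hx) = unitCls (hx' g) * pullU (PicF.XTproj f T) (unitCls hM) from
        Units.ext (Quot.sound ⟨e⟩), hpull, mul_right_comm, map_mul, H29Ell.norm_base, inv_pow,
        inv_mul_cancel_right, _root_.mul_one, hnorm]
  · rw [D.xU_psiDeg, show unitCls (invertible_of_ok hx) = unitCls ((ok_iff J Lu).1 hxu).1 * unitCls hN from
      Units.ext rfl, hLu, hNu, inv_pow, inv_mul_cancel_right, hnorm]

/-- Pullback of families is a functor up to identification. -/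
theorem picDeg_comp {n : ℤ} {T' T'' : Over S} {J : Over S} {ξ : (PicF.XT f J).Modules}
    (hξ : (ModFun.PicDeg f n).ok J ξ) (a : T'' ⟶ T') (g : T' ⟶ J) :
    (ModFun.PicDeg f n).r T'' ((ModFun.PicDeg f n).pull a ((ModFun.PicDeg f n).pull g ξ))
        ((ModFun.PicDeg f n).pull (a ≫ g) ξ) ∧
      (ModFun.PicDeg f n).ok T'' ((ModFun.PicDeg f n).pull a ((ModFun.PicDeg f n).pull g ξ)) := by
  have h1 := H11Ample.isInvertible_pullback (PicF.XTmap f g) (invertible_of_ok hξ)
  refine ⟨⟨Coh.structureModule _, H11Ample.isInvertible_structureModule, ?_⟩,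
    ok_of_fibDeg (H11Ample.isInvertible_pullback _ h1) (fibDeg_pullback a h1 (fibDeg_pullback g (invertible_of_ok hξ) hξ.2))⟩
  refine Sep.iso_of_cl_eq (L := pb (PicF.XTmap f (a ≫ g)) ξ) (congrArg Units.val
    (show pullU (PicF.XTmap f (a ≫ g)) (unitCls (invertible_of_ok hξ)) =
      pullU (PicF.XTmap f a) (pullU (PicF.XTmap f g) (unitCls (invertible_of_ok hξ))) *
        pullU (PicF.XTproj f T'') (unitCls H11Ample.isInvertible_structureModule) from ?_))
  rw [H25Theta.pullU_pullU, Sep.XTmap_comp, show (unitCls H11Ample.isInvertible_structureModule :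
    (Cls T''.left)ˣ) = 1 from Units.ext rfl, map_one, _root_.mul_one]

/-- Families identified with a common one are identified. -/
theorem picDeg_r_of_common {n : ℤ} (T : Over S) (x y z : (PicF.XT f T).Modules) (hx : (ModFun.PicDeg f n).ok T x)
    (hy : (ModFun.PicDeg f n).ok T y) (hz : (ModFun.PicDeg f n).ok T z) (h : (ModFun.PicDeg f n).r T z x)
    (h' : (ModFun.PicDeg f n).r T z y) : (ModFun.PicDeg f n).r T x y := by
  obtain ⟨M, hM, ⟨e⟩⟩ := h
  obtain ⟨M', hM', ⟨e'⟩⟩ := h'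
  obtain ⟨N, hN, ⟨eN⟩⟩ := H11Sym.exists_inverse hM
  have hNu : unitCls hN = (unitCls hM)⁻¹ := eq_inv_of_mul_eq_one_left (Units.ext (Quot.sound ⟨eN⟩))
  refine ⟨CohB1.tensorMod N M', H11Ample.isInvertible_tensor hN hM', Sep.iso_of_cl_eq (L := y) (congrArg Units.val
    (show unitCls (invertible_of_ok hy) = unitCls (invertible_of_ok hx) *
      pullU (PicF.XTproj f T) (unitCls (H11Ample.isInvertible_tensor hN hM')) from ?_))⟩
  have ex : unitCls (invertible_of_ok hx) = unitCls (invertible_of_ok hz) * pullU (PicF.XTproj f T) (unitCls hM) :=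
    Units.ext (Quot.sound ⟨e⟩)
  have ey : unitCls (invertible_of_ok hy) = unitCls (invertible_of_ok hz) * pullU (PicF.XTproj f T) (unitCls hM') :=
    Units.ext (Quot.sound ⟨e'⟩)
  rw [ex, ey, show unitCls (H11Ample.isInvertible_tensor hN hM') = unitCls hN * unitCls hM' from Units.ext rfl, hNu,
    map_mul, map_inv, _root_.mul_assoc, mul_inv_cancel_left]

section affine

variable {F : ModFun.Problem.{u + 1} S} {M : Over S} {ξ : F.Fam M}

/-- Natural maps on affine points of `M` come from a unique morphism. -/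
theorem existsUnique_of_affine_points {N : Over S} (χ : ∀ (T : Over S), IsAffine T.left → (T ⟶ M) → (T ⟶ N))
    (hχ : ∀ (T T' : Over S) (hT : IsAffine T.left) (hT' : IsAffine T'.left) (a : T' ⟶ T) (g : T ⟶ M),
      χ T' hT' (a ≫ g) = a ≫ χ T hT g) :
    ∃! h : M ⟶ N, ∀ (T : Over S) (hT : IsAffine T.left) (g : T ⟶ M), χ T hT g = g ≫ h := by
  let 𝒰 := M.left.affineCover
  let pt : ∀ i, Over.mk (𝒰.f i ≫ M.hom) ⟶ M := fun i => Over.homMk (𝒰.f i) rfl
  let c : ∀ i, 𝒰.X i ⟶ N.left := fun i =>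
    (χ (Over.mk (𝒰.f i ≫ M.hom)) (inferInstanceAs (IsAffine (𝒰.X i))) (pt i)).left
  have hc : ∀ i, c i ≫ N.hom = 𝒰.f i ≫ M.hom := fun i => Over.w (χ _ _ (pt i))
  have compat : ∀ i i', pullback.fst (𝒰.f i) (𝒰.f i') ≫ c i = pullback.snd (𝒰.f i) (𝒰.f i') ≫ c i' := by
    intro i i'
    refine Scheme.Cover.hom_ext (pullback (𝒰.f i) (𝒰.f i')).affineCover _ _ fun w => ?_
    let P := pullback (𝒰.f i) (𝒰.f i')
    let u := P.affineCover.f w
    let W : Over S := Over.mk (u ≫ pullback.fst (𝒰.f i) (𝒰.f i') ≫ 𝒰.f i ≫ M.hom)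
    let a : W ⟶ Over.mk (𝒰.f i ≫ M.hom) := Over.homMk (u ≫ pullback.fst _ _) (Category.assoc _ _ _)
    let b : W ⟶ Over.mk (𝒰.f i' ≫ M.hom) := Over.homMk (u ≫ pullback.snd _ _)
      ((Category.assoc _ _ _).trans (congrArg (u ≫ ·) (pullback.condition_assoc M.hom).symm))
    have hab : a ≫ pt i = b ≫ pt i' := Over.OverMorphism.ext ((Category.assoc _ _ _).trans
      ((congrArg (u ≫ ·) pullback.condition).trans (Category.assoc _ _ _).symm))
    have hW : IsAffine W.left := inferInstanceAs (IsAffine (P.affineCover.X w))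
    exact ((Category.assoc _ _ _).symm.trans (congrArg CommaMorphism.left ((hχ _ W _ hW a (pt i)).symm.trans
      ((congrArg (χ W hW) hab).trans (hχ _ W _ hW b (pt i')))))).trans (Category.assoc _ _ _)
  let hl := 𝒰.glueMorphisms c compat
  have hlι : ∀ i, 𝒰.f i ≫ hl = c i := fun i => Scheme.Cover.ι_glueMorphisms _ _ _ _
  let h : M ⟶ N := Over.homMk hl (Scheme.Cover.hom_ext 𝒰 _ _ fun i => by
    rw [← Category.assoc, hlι, hc])
  refine ⟨h, fun T hT g => ?_, fun h' hh' => Over.OverMorphism.ext (Scheme.Cover.hom_ext 𝒰 _ _ fun i => ?_)⟩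
  · refine Over.OverMorphism.ext (Scheme.Cover.hom_ext (𝒰.pullback₁ g.left) _ _ fun i => ?_)
    refine Scheme.Cover.hom_ext ((𝒰.pullback₁ g.left).X i).affineCover _ _ fun w => ?_
    let u := ((𝒰.pullback₁ g.left).X i).affineCover.f w
    let W : Over S := Over.mk (u ≫ pullback.fst g.left (𝒰.f i) ≫ T.hom)
    let a : W ⟶ T := Over.homMk (u ≫ pullback.fst g.left (𝒰.f i)) (Category.assoc _ _ _)
    let b : W ⟶ Over.mk (𝒰.f i ≫ M.hom) := Over.homMk (u ≫ pullback.snd g.left (𝒰.f i)) (by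
      refine (Category.assoc _ _ _).trans ?_
      exact congrArg (u ≫ ·) ((pullback.condition_assoc M.hom).symm.trans (congrArg (pullback.fst g.left (𝒰.f i) ≫ ·) (Over.w g))))
    have hab : a ≫ g = b ≫ pt i := Over.OverMorphism.ext ((Category.assoc _ _ _).trans
      ((congrArg (u ≫ ·) pullback.condition).trans (Category.assoc _ _ _).symm))
    have hW : IsAffine W.left := inferInstanceAs (IsAffine (((𝒰.pullback₁ g.left).X i).affineCover.X w))
    have hA : IsAffine (Over.mk (𝒰.f i ≫ M.hom)).left := inferInstanceAs (IsAffine (𝒰.X i))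
    have h1 := congrArg CommaMorphism.left ((hχ T W hT hW a g).symm.trans
      ((congrArg (χ W hW) hab).trans (hχ _ W hA hW b (pt i))))
    show u ≫ pullback.fst g.left (𝒰.f i) ≫ (χ T hT g).left = u ≫ pullback.fst g.left (𝒰.f i) ≫ g.left ≫ hl
    exact ((Category.assoc _ _ _).symm.trans h1).trans ((Category.assoc _ _ _).trans (congrArg (u ≫ ·)
      ((congrArg (pullback.snd g.left (𝒰.f i) ≫ ·) (hlι i)).symm.trans (pullback.condition_assoc hl).symm)))
  · exact (congrArg CommaMorphism.left (hh' _ (inferInstanceAs (IsAffine (𝒰.X i))) (pt i))).symm.trans (hlι i).symm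

/-- A fine moduli space for affine test schemes is a coarse one. -/
theorem isCoarseModuli_of_univ_affine
    (φ : F.Hom (fun T => IsAffine T.left) M)
    (hr : ∀ (T : Over S) (x y z : F.Fam T), F.ok T x → F.ok T y → F.ok T z → F.r T z x → F.r T z y → F.r T x y)
    (hpull : ∀ {T' : Over S} (g : T' ⟶ M), F.ok T' (F.pull g ξ))
    (hcomp : ∀ {T' T'' : Over S} (a : T'' ⟶ T') (g : T' ⟶ M),
      F.r T'' (F.pull a (F.pull g ξ)) (F.pull (a ≫ g) ξ) ∧ F.ok T'' (F.pull a (F.pull g ξ)))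
    (hφ : ∀ (T : Over S) (x : F.Fam T) hT hx, F.r T (F.pull (φ.app T x hT hx) ξ) x)
    (hφg : ∀ (T : Over S) (g : T ⟶ M) hT hx, φ.app T (F.pull g ξ) hT hx = g) :
    ModFun.IsCoarseModuli (fun T => IsAffine T.left) F M φ := by
  refine ⟨fun Ω _ _ t => inferInstanceAs (IsAffine (Spec _)), fun N ψ => ?_,
    fun Ω _ _ t hP => ⟨fun g => ⟨_, hpull g, hφg _ g hP (hpull g)⟩, fun x y hx hy h => ?_⟩⟩
  · obtain ⟨h, hh, huniq⟩ := existsUnique_of_affine_points (M := M)
      (fun T hT g => ψ.app T (F.pull g ξ) hT (hpull g)) (fun T T' hT hT' a g => by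
        obtain ⟨h1, h2⟩ := hcomp a g
        exact (ψ.resp _ _ hT' h2 (hpull _) h1).symm.trans (ψ.natural a _ hT hT' (hpull g) h2))
    refine ⟨h, fun T x hT hx => ?_, fun h' hh' => huniq h' fun T hT g => ?_⟩
    · exact (ψ.resp _ _ hT (hpull _) hx (hφ T x hT hx)).symm.trans (hh T hT _)
    · exact (hh' T _ hT (hpull g)).trans (congrArg (· ≫ h') (hφg T g hT (hpull g)))
  · exact hr _ x y _ hx hy (hpull _) (hφ _ x hP hx) (h ▸ hφ _ y hP hy)

end affine

end Groth.Agent.H25Jac
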