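import Groth.Agent.H25Jac.Functor
import Groth.Agent.H12Pic.PicCurve.AbelStage
import Groth.Agent.H28Vert.IdealProd
import Groth.Agent.H29Ell.PicGroup

/-!
# Classes of divisors of points on families of curves
-/

set_option autoImplicit false
set_option linter.style.haveILetI false
set_option linter.unusedSectionVars false
set_option maxHeartbeats 800000
set_option backward.isDefEq.respectTransparency.types false

noncomputable section

universe u

open CategoryTheory CategoryTheory.Limits AlgebraicGeometry Opposite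

namespace Groth.Agent.H25Jac

open Groth.Agent.H17.PullCl Groth.Agent.H12Pic Groth.Agent.H12Pic.PicCurve
open Groth.Agent.H25Theta (Cls cls pullU unitCls pb)

section ideal

variable {Y : Scheme.{u}}

/-- The class of the ideal of an effective Cartier divisor, as a unit. -/
def idU (I : Y.IdealSheafData) (hI : BlowUp.IsEffCartierIdeal I) : (Cls Y)ˣ :=
  unitCls (H29Blow.isInvertible_of_isEffCartierIdeal I hI)

theorem idU_congr {I J : Y.IdealSheafData} (h : I = J) (hI : BlowUp.IsEffCartierIdeal I)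
    (hJ : BlowUp.IsEffCartierIdeal J) : idU I hI = idU J hJ := by subst h; rfl

theorem idU_mul {I J : Y.IdealSheafData} (hI : BlowUp.IsEffCartierIdeal I) (hJ : BlowUp.IsEffCartierIdeal J)
    (hIJ : BlowUp.IsEffCartierIdeal (I * J)) : idU (I * J) hIJ = idU I hI * idU J hJ :=
  Units.ext (Quot.sound ⟨(H28Vert.nonempty_idealMod_mul hI hJ).some.symm⟩)

theorem idU_top : idU (⊤ : Y.IdealSheafData) H29Blow.isEffCartierIdeal_top = 1 := by
  have h : idU (⊤ * ⊤ : Y.IdealSheafData) (by rw [show (⊤ * ⊤ : Y.IdealSheafData) = ⊤ from one_mul _]; exact H29Blow.isEffCartierIdeal_top) =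
      idU ⊤ H29Blow.isEffCartierIdeal_top * idU ⊤ H29Blow.isEffCartierIdeal_top := idU_mul _ _ _
  rw [idU_congr (show (⊤ * ⊤ : Y.IdealSheafData) = ⊤ from one_mul _) _ H29Blow.isEffCartierIdeal_top] at h
  exact left_eq_mul.1 h

theorem idU_prod {ι : Type*} (I : ι → Y.IdealSheafData) (hI : ∀ i, BlowUp.IsEffCartierIdeal (I i)) (s : Finset ι) :
    ∃ h : BlowUp.IsEffCartierIdeal (∏ i ∈ s, I i), idU _ h = ∏ i ∈ s, idU (I i) (hI i) := by
  classical
  induction s using Finset.induction_on with
  | empty =>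
    refine ⟨by rw [Finset.prod_empty]; exact H29Blow.isEffCartierIdeal_top, ?_⟩
    rw [idU_congr (Finset.prod_empty : ∏ i ∈ (∅ : Finset ι), I i = (1 : Y.IdealSheafData)) _ H29Blow.isEffCartierIdeal_top,
      Finset.prod_empty]
    exact idU_top
  | insert a s ha ih =>
    obtain ⟨h, e⟩ := ih
    have h' := H28Vert.isEffCartierIdeal_mul (hI a) h
    refine ⟨by rw [Finset.prod_insert ha]; exact h', ?_⟩
    rw [idU_congr (Finset.prod_insert ha) _ h', idU_mul (hI a) h h', e, Finset.prod_insert ha]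

theorem pullU_idU {Y' : Scheme.{u}} (g : Y' ⟶ Y) {I : Y.IdealSheafData} (hI : BlowUp.IsEffCartierIdeal I)
    (hI' : BlowUp.IsEffCartierIdeal (I.comap g)) : pullU g (idU I hI) = idU (I.comap g) hI' :=
  Units.ext (Quot.sound (H12Pic.CurveFam.nonempty_pullback_idealMod_comap g hI hI'))

theorem isInvertibleCl_idU (I : Y.IdealSheafData) (hI : BlowUp.IsEffCartierIdeal I) :
    PicF.IsInvertibleCl ((idU I hI).1 : PicF.Cl Y) := ⟨_, rfl, H29Blow.isInvertible_of_isEffCartierIdeal I hI⟩

end ideal

variable {X S : Scheme.{u}} (f : X ⟶ S) [IsProper f] [SmoothOfRelativeDimension 1 f] [GeometricallyConnected f]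

theorem isEffCartier_sec {T : Over S} (b : T ⟶ Over.mk f) : BlowUp.IsEffCartierIdeal (sec f b).ker := by
  obtain ⟨_, _, _⟩ := family_facts f T
  exact H12Pic.CurveFam.isEffCartierIdeal_section (PicF.XTproj f T) _ (sec_proj f b)

/-- The class of the ideal of a point of the curve on the family. -/
def secU {T : Over S} (b : T ⟶ Over.mk f) : (Cls (PicF.XT f T))ˣ := idU _ (isEffCartier_sec f b)

theorem pullU_secU {T T' : Over S} (g : T' ⟶ T) (b : T ⟶ Over.mk f) :
    pullU (PicF.XTmap f g) (secU f b) = secU f (g ≫ b) :=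
  Units.ext (Quot.sound (pullback_sec f g b))

variable {σ : S ⟶ X} (hσ : σ ≫ f = 𝟙 S)

/-- The constant point. -/
abbrev constPt (T : Over S) : T ⟶ Over.mk f :=
  Over.homMk (T.hom ≫ σ) (by show (T.hom ≫ σ) ≫ f = T.hom; rw [Category.assoc, hσ, Category.comp_id])

theorem comp_constPt {T T' : Over S} (g : T' ⟶ T) : g ≫ constPt f hσ T = constPt f hσ T' :=
  Over.OverMorphism.ext ((Category.assoc _ _ _).symm.trans (congrArg (· ≫ σ) (Over.w g)))

theorem pullU_constPt {T T' : Over S} (g : T' ⟶ T) :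
    pullU (PicF.XTmap f g) (secU f (constPt f hσ T)) = secU f (constPt f hσ T') := by
  rw [pullU_secU, comp_constPt]

/-- The rigidified class of the difference of a point and the base point. -/
def ptClass {T : Over S} (b : T ⟶ Over.mk f) : (Cls (PicF.XT f T))ˣ :=
  H29Ell.norm f σ hσ T ((secU f b)⁻¹ * secU f (constPt f hσ T))

theorem pullU_ptClass {T T' : Over S} (g : T' ⟶ T) (b : T ⟶ Over.mk f) :
    pullU (PicF.XTmap f g) (ptClass f hσ b) = ptClass f hσ (g ≫ b) := by
  rw [ptClass, ptClass, H29Ell.norm_natural, map_mul, map_inv, pullU_secU, pullU_constPt]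

theorem ptClass_constPt (T : Over S) : ptClass f hσ (constPt f hσ T) = 1 := by
  rw [ptClass, inv_mul_cancel, map_one]

theorem ptClass_mem {T : Over S} (b : T ⟶ Over.mk f) : ptClass f hσ b ∈ H29Ell.jSub f σ hσ T := by
  have hinv := isInvertible_sec f b
  obtain ⟨N, hN, ⟨eN⟩⟩ := H11Sym.exists_inverse hinv
  have hI := isInvertible_sec f (constPt f hσ T)
  have hu : (secU f b)⁻¹ * secU f (constPt f hσ T) =
      unitCls (H11Ample.isInvertible_tensor hN hI) := by
    have h1 : unitCls hN * secU f b = 1 := Units.ext (Quot.sound ⟨eN⟩)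
    rw [← eq_inv_of_mul_eq_one_left h1]
    exact Units.ext rfl
  rw [ptClass, hu]
  refine H29Ell.norm_mem_jSub f σ hσ T _ ((isPicZeroCl_iff_degAt f T (H11Ample.isInvertible_tensor hN hI)).2 fun t => ?_)
  haveI := isProper_XTproj f T
  let Ω := AlgebraicClosure (T.left.residueField t)
  let τ : Spec (CommRingCat.of Ω) ⟶ T.left :=
    Spec.map (CommRingCat.ofHom (algebraMap (T.left.residueField t) Ω)) ≫ T.left.fromSpecResidueField t
  have hτ : τ (IsLocalRing.closedPoint Ω) = t := by
    show (Spec.map _ ≫ T.left.fromSpecResidueField t) _ = t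
    rw [Scheme.Hom.comp_apply, Scheme.fromSpecResidueField_apply]
  let x := τ ≫ T.hom
  let a : Over.mk x ⟶ T := Over.homMk τ rfl
  letI : (PicF.XT f (Over.mk x)).Over (Spec (CommRingCat.of Ω)) := fieldPointOver f x
  have hM := H11Ample.isInvertible_tensor hN hI
  have hM' := H11Ample.isInvertible_pullback (PicF.XTmap f a) hM
  rw [← hτ, show τ (IsLocalRing.closedPoint Ω) = a.left (IsLocalRing.closedPoint Ω) from rfl,
    ← degAt_pullback f a hM, degAt_point f x hM']
  obtain ⟨_, _, _, _, hd⟩ := xtPoint_facts f x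
  haveI := H29RR.isNoetherian_of_proper (k := Ω) (X := PicF.XT f (Over.mk x))
  obtain ⟨e1⟩ := pullback_sec f a b
  obtain ⟨e2⟩ := pullback_sec f a (constPt f hσ T)
  have hN' : PicF.IsInvertible (pb (PicF.XTmap f a) N) := H11Ample.isInvertible_pullback _ hN
  have hone : Curv2.deg Ω (PicF.XT f (Over.mk x)) (pb (PicF.XTmap f a) N) 1 = 1 := by
    have h := H29RR.deg_congr (k := Ω) ((H25Theta.pT (PicF.XTmap f a) N _).symm ≪≫
      (Scheme.Modules.pullback _).mapIso eN ≪≫ H25Theta.pO _)
    rw [H29RR.deg_tensor hd.le hN' (H11Ample.isInvertible_pullback _ hinv), H29RR.deg_structureModule,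
      H29RR.deg_congr (k := Ω) e1, deg_ideal_sec] at h
    omega
  rw [H29RR.deg_congr (k := Ω) (H25Theta.pT (PicF.XTmap f a) N _),
    H29RR.deg_tensor hd.le hN' (H11Ample.isInvertible_pullback _ hI), hone, H29RR.deg_congr (k := Ω) e2, deg_ideal_sec]
  rfl

end Groth.Agent.H25Jac
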