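import Groth.Agent.H25Jac.Jacobian
import Groth.Agent.H29RR.Points
import Groth.Agent.H28Int.Core
import Groth.Agent.H28Vert.PicVert

/-!
# Classes of sums of rational points and the good locus of the Jacobian
-/

set_option autoImplicit false
set_option linter.style.haveILetI false
set_option linter.unusedSectionVars false
set_option maxHeartbeats 1600000
set_option backward.isDefEq.respectTransparency.types false

noncomputable section

universe u

open CategoryTheory CategoryTheory.Limits AlgebraicGeometry Opposite MonoidalCategory CartesianMonoidalCategory MonObj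

namespace Groth.Agent.H25Jac

open Groth.Agent.H17.PullCl Groth.Agent.H12Pic Groth.Agent.H12Pic.PicCurve Groth.Agent.H12Pic.RigPoints
open Groth.Agent.H27SymProd
open Groth.Agent.H25Theta (Cls cls pull pullU unitCls pb)

attribute [local instance] fibreOverField

theorem unitCls_tensorList_ofFn {Y : Scheme.{u}} : ∀ {n : ℕ} (M : Fin n → Y.Modules)
    (hM : ∀ i, PicF.IsInvertible (M i)) (hl : PicF.IsInvertible (FGA.tensorList (List.ofFn M))),
    unitCls hl = ∏ i, unitCls (hM i)
  | 0, M, hM, hl => by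
    rw [Finset.univ_eq_empty, Finset.prod_empty]
    refine Units.ext ?_
    show cls (FGA.tensorList (List.ofFn M)) = 1
    rw [List.ofFn_zero]
    rfl
  | n + 1, M, hM, hl => by
    have hl' : PicF.IsInvertible (FGA.tensorList (List.ofFn fun i : Fin n => M i.succ)) :=
      H28Vert.isInvertible_list _ fun A hA => by
        rw [List.mem_ofFn] at hA
        obtain ⟨i, rfl⟩ := hA
        exact hM _
    rw [Fin.prod_univ_succ, ← unitCls_tensorList_ofFn (fun i => M i.succ) (fun i => hM _) hl']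
    refine Units.ext ?_
    show cls (FGA.tensorList (List.ofFn M)) = _
    rw [List.ofFn_succ]
    rfl

variable {k : Type u} [Field k] {X : Scheme.{u}} {f : X ⟶ Spec (CommRingCat.of k)}
  {σ : Spec (CommRingCat.of k) ⟶ X} {hσ : σ ≫ f = 𝟙 _}
  [IsProper f] [SmoothOfRelativeDimension 1 f] [GeometricallyConnected f]

/-- The first projection of the curve over the terminal object. -/
abbrev fst₁ (f : X ⟶ Spec (CommRingCat.of k)) : PicF.XT f (𝟙_ (Over (Spec (CommRingCat.of k)))) ⟶ X :=
  pullback.fst f (𝟙_ (Over (Spec (CommRingCat.of k)))).hom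

theorem pullU_idU_point (b : 𝟙_ (Over (Spec (CommRingCat.of k))) ⟶ Over.mk f)
    (hI : BlowUp.IsEffCartierIdeal b.left.ker) : pullU (fst₁ f) (idU b.left.ker hI) = secU f b := by
  haveI : IsClosedImmersion (b.left ≫ f) := by
    rw [show b.left ≫ f = 𝟙 _ from Over.w b]
    infer_instance
  have hk : b.left.ker.comap (fst₁ f) = (sec f b).ker :=
    comap_ker_lift (IsPullback.of_hasPullback f (𝟙_ (Over (Spec (CommRingCat.of k)))).hom) b.left (Over.w b)
      (sec f b) (sec_proj f b) ((sec_fst f b).trans (Category.id_comp _).symm)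
  rw [pullU_idU (fst₁ f) hI (hk ▸ isEffCartier_sec f b), idU_congr hk _ (isEffCartier_sec f b)]
  rfl

theorem norm_secU_point (b : 𝟙_ (Over (Spec (CommRingCat.of k))) ⟶ Over.mk f) :
    H29Ell.norm f σ hσ (𝟙_ _) (secU f b) = secU f b := by
  refine H29Ell.norm_eq_self f σ hσ _ (secU f b) (Units.ext ?_)
  haveI : Subsingleton ↥(𝟙_ (Over (Spec (CommRingCat.of k)))).left := inferInstanceAs (Subsingleton (PrimeSpectrum k))
  haveI : Nonempty ↥(𝟙_ (Over (Spec (CommRingCat.of k)))).left := inferInstanceAs (Nonempty (PrimeSpectrum k))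
  obtain ⟨e⟩ := H25Theta.nonempty_iso_of_subsingleton
    (H11Ample.isInvertible_pullback (PicF.secT f σ hσ (𝟙_ _)) (isInvertible_sec f b))
  exact Quot.sound ⟨e⟩

theorem xU_prod_point {J : Over (Spec (CommRingCat.of k))} [GrpObj J] [IsCommMonObj J] (D : JData f σ hσ J)
    {aj : Over.mk f ⟶ J}
    (haj : ∀ (T : Over (Spec (CommRingCat.of k))) (b : T ⟶ Over.mk f), D.xU (b ≫ aj) = ptClass f hσ b)
    {n : ℕ} (b : Fin n → (𝟙_ (Over (Spec (CommRingCat.of k))) ⟶ Over.mk f)) :
    D.xU (∏ i, b i ≫ aj) = (∏ i, secU f (b i))⁻¹ * secU f (constPt f hσ (𝟙_ _)) ^ n := by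
  rw [show D.xU (∏ i, b i ≫ aj) = ∏ i, D.xU (b i ≫ aj) from map_prod (D.xHom _) _ _]
  simp only [haj, ptClass, map_mul, map_inv, norm_secU_point]
  rw [Finset.prod_mul_distrib, Finset.prod_inv_distrib, Finset.prod_const, Finset.card_univ, Fintype.card_fin]

theorem rho_point (gn : ℕ) : rho hσ gn (𝟙_ _) = secU f (constPt f hσ (𝟙_ _)) ^ gn := by
  rw [rho, norm_secU_point]

/-- A class in the good locus has exactly one section. -/
theorem h0_eq_one_of_good {J : Over (Spec (CommRingCat.of k))} [GrpObj J] {D : JData f σ hσ J} {gn : ℕ}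
    {V : J.left.Opens}
    (hV : ∀ (T : Over (Spec (CommRingCat.of k))) (a : T ⟶ J) (L : (PicF.XT f T).Modules) (hL : PicF.IsInvertible L),
      unitCls hL = D.xU a * (rho hσ gn T)⁻¹ → Set.range a.left ⊆ (V : Set J.left) → IsGood (PicF.XTproj f T) L)
    (a : 𝟙_ (Over (Spec (CommRingCat.of k))) ⟶ J) (ha : ∀ p, a.left p ∈ V)
    {M : X.Modules} (hM : PicF.IsInvertible M)
    (hu : pullU (fst₁ f) (unitCls hM) = D.xU a * (rho hσ gn (𝟙_ _))⁻¹) :
    letI : X.Over (Spec (CommRingCat.of k)) := ⟨f⟩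
    Module.finrank k (Coh.HH X M 0) = 1 := by
  letI : X.Over (Spec (CommRingCat.of k)) := ⟨f⟩
  haveI := isProper_XTproj f (𝟙_ (Over (Spec (CommRingCat.of k))))
  haveI : Subsingleton ↥(Spec (CommRingCat.of k)) := inferInstanceAs (Subsingleton (PrimeSpectrum k))
  let T := 𝟙_ (Over (Spec (CommRingCat.of k)))
  let t : T.left := IsLocalRing.closedPoint k
  have hg := (hV T a (pb (fst₁ f) M) (H11Ample.isInvertible_pullback _ hM) (Eq.trans (b := pullU (fst₁ f) (unitCls hM)) (Units.ext rfl) hu)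
    (Set.range_subset_iff.2 ha) t).1
  rw [fiberRank_pullback f hM (IsPullback.of_hasPullback f T.hom) 0 t] at hg
  have h2 := finrank_HH_point f hM (K := k) (Y' := X) (𝟙 _) (g' := 𝟙 _)
    (IsPullback.of_horiz_isIso ⟨(Category.id_comp _).trans (Category.comp_id _).symm⟩) 0
  rw [(H29RR.hhIso (k := k) ((Scheme.Modules.pullbackId _).app _) 0).finrank_eq] at h2
  change Module.finrank k (Coh.HH X M 0) = _ at h2
  rw [h2, Subsingleton.elim ((𝟙 (Spec (CommRingCat.of k)) : _ ⟶ _) (IsLocalRing.closedPoint k)) (T.hom t), hg]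

end Groth.Agent.H25Jac

namespace Groth.Agent.H25Jac

open Groth.Agent.H25Theta (Cls cls pull pullU unitCls pb)

variable {k : Type u} [Field k] {X : Scheme.{u}} [X.Over (Spec (CommRingCat.of k))]
  [IsProper (X ↘ Spec (CommRingCat.of k))] [SmoothOfRelativeDimension 1 (X ↘ Spec (CommRingCat.of k))]

/-- Sections do not increase when subtracting rational points. -/
theorem h0_le_of_points : ∀ {n : ℕ} (q : Fin n → (Spec (CommRingCat.of k) ⟶ X))
    (hq : ∀ i, q i ≫ (X ↘ Spec (CommRingCat.of k)) = 𝟙 _) {M M0 : X.Modules} (hM : PicF.IsInvertible M)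
    (hM0 : PicF.IsInvertible M0)
    (_ : unitCls hM0 = unitCls hM * ∏ i, idU (q i).ker
      (H12Pic.CurveFam.isEffCartierIdeal_section _ (q i) (hq i))),
    Module.finrank k (Coh.HH X M0 0) ≤ Module.finrank k (Coh.HH X M 0)
  | 0, q, hq, M, M0, hM, hM0, h => by
    rw [Finset.univ_eq_empty, Finset.prod_empty, _root_.mul_one] at h
    obtain ⟨e⟩ := H12Pic.Sep.iso_of_cl_eq (L := M0) (L' := M) (congrArg Units.val h)
    exact ((H29RR.hhIso (k := k) e 0).finrank_eq).le
  | n + 1, q, hq, M, M0, hM, hM0, h => by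
    haveI := H29RR.isNoetherian_of_proper (k := k) (X := X)
    obtain ⟨hx, hk, -⟩ := S6487.section_pt (q 0) (hq 0)
    have hE := H12Pic.CurveFam.isEffCartierIdeal_section (X ↘ Spec (CommRingCat.of k)) (q 0) (hq 0)
    have hI := H29Blow.isInvertible_of_isEffCartierIdeal _ hE
    have hI' : PicF.IsInvertible (ClSub.idealMod (H29RR.ptIdeal (q 0 (IsLocalRing.closedPoint k)))) := hk ▸ hI
    obtain ⟨hle, -, -⟩ := H29RR.twist_point (k := k) hx hM (H11Ample.isCoh_of_isInvertible hI')
    have hM1 := H11Ample.isInvertible_tensor hI' hM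
    have hu1 : unitCls hM1 = idU (q 0).ker hE * unitCls hM := by
      rw [idU_congr hk hE (hk ▸ hE)]
      exact Units.ext rfl
    refine le_trans (h0_le_of_points (fun i : Fin n => q i.succ) (fun i => hq _) hM1 hM0 ?_) hle
    rw [h, Fin.prod_univ_succ, hu1, _root_.mul_assoc, mul_left_comm]

end Groth.Agent.H25Jac
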