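import Groth.Agent.H25Jac.SepClosed
import Groth.Agent.H25Jac.Divisor
import Groth.Agent.H12Pic.PicCurve.GoodClass

/-!
# Divisors of degree the genus with no moving part, over any field
-/

set_option autoImplicit false
set_option linter.style.haveILetI false
set_option linter.unusedSectionVars false
set_option maxHeartbeats 1600000
set_option backward.isDefEq.respectTransparency.types false

noncomputable section

universe u

open CategoryTheory CategoryTheory.Limits AlgebraicGeometry TopologicalSpace Opposite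

namespace Groth.Agent.H25Jac

open Groth.Agent.H17.PullCl Groth.Agent.H12Pic Groth.Agent.H12Pic.PicCurve Groth.Agent.H12Pic.RigPoints Groth.Agent.H28Mero
attribute [local instance] fibreOverField
open Groth.Agent.H25Theta (Cls cls pullU unitCls pb pT pC pI tI pO)

section norm

variable {X S : Scheme.{u}} (f : X ⟶ S) {σ : S ⟶ X} (hσ : σ ≫ f = 𝟙 S)

/-- Twisting by the base gives the normalised class. -/
theorem exists_rigidified_norm {H : Over S} {M : (PicF.XT f H).Modules} (hM : PicF.IsInvertible M) :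
    ∃ M' : (PicF.XT f H).Modules, PicF.IsInvertible M' ∧
      Nonempty ((Scheme.Modules.pullback (PicF.secT f σ hσ H)).obj M' ≅ Coh.structureModule H.left) ∧
      (∀ {P : Scheme.{u}} (h : P ⟶ PicF.XT f H),
        Nonempty ((Scheme.Modules.pullback (h ≫ PicF.XTproj f H)).obj ((Scheme.Modules.pullback (PicF.secT f σ hσ H)).obj M) ≅
          Coh.structureModule P) →
        Nonempty ((Scheme.Modules.pullback h).obj M' ≅ (Scheme.Modules.pullback h).obj M)) ∧
      cls M' = (H29Ell.norm f σ hσ H (unitCls hM)).1 := by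
  let σ' := PicF.secT f σ hσ H
  let π := PicF.XTproj f H
  have hσ' : σ' ≫ π = 𝟙 _ := RigDescent.secT_snd f hσ H
  have hσM := H11Ample.isInvertible_pullback σ' hM
  obtain ⟨N, hN, ⟨e⟩⟩ := H11Sym.exists_inverse hσM
  have hfN := H11Ample.isInvertible_pullback π hN
  obtain ⟨τ⟩ := H11Ample.exists_iso_pullback_tensor σ' hM hfN
  obtain ⟨ν⟩ := RigDescent.nonempty_section_pullback π σ' hσ' N
  refine ⟨CohB1.tensorMod M (pb π N), H11Ample.isInvertible_tensor hM hfN,
    ⟨τ ≪≫ H11QMap.tensorIso (Iso.refl _) ν ≪≫ H10Coh.Tw.commIso _ _ ≪≫ e⟩, fun {P} h hh => ?_, ?_⟩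
  · obtain ⟨t⟩ := hh
    obtain ⟨τ'⟩ := H11Ample.exists_iso_pullback_tensor h hM hfN
    obtain ⟨τ''⟩ := H11Ample.exists_iso_pullback_tensor (h ≫ π) hN hσM
    let ν' : (Scheme.Modules.pullback h).obj ((Scheme.Modules.pullback π).obj N) ≅ Coh.structureModule P :=
      (Scheme.Modules.pullbackComp h π).app N ≪≫ (H10Coh.Tw.rightUnitIso _).symm ≪≫
        H11QMap.tensorIso (Iso.refl _) t.symm ≪≫ τ''.symm ≪≫ (Scheme.Modules.pullback (h ≫ π)).mapIso e ≪≫
        PicLoc.pullbackStructureIso _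
    exact ⟨τ' ≪≫ H11QMap.tensorIso (Iso.refl _) ν' ≪≫ H10Coh.Tw.rightUnitIso _⟩
  · have hu : unitCls hN = (unitCls hσM)⁻¹ := eq_inv_of_mul_eq_one_left (Units.ext (Quot.sound ⟨e⟩))
    have : unitCls hM * pullU π (unitCls hN) = H29Ell.norm f σ hσ H (unitCls hM) := by
      rw [H29Ell.norm_apply, show pullU (PicF.secT f σ hσ H) (unitCls hM) = unitCls hσM from Units.ext rfl,
        div_eq_mul_inv, hu, map_inv]
    exact congrArg Units.val this

end norm

variable {k : Type u} [Field k] {X : Scheme.{u}} (f : X ⟶ Spec (CommRingCat.of k))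
  [IsProper f] [SmoothOfRelativeDimension 1 f] [GeometricallyConnected f]

/-- The fibres of a family are integral curves. -/
theorem fibre_curve (T : Over (Spec (CommRingCat.of k))) (t : T.left) :
    IsIntegral ((PicF.XTproj f T).fiber t) ∧ topologicalKrullDim ((PicF.XTproj f T).fiber t) ≤ 1 := by
  obtain ⟨_, _, _⟩ := family_facts f T
  haveI := smoothOfRelativeDimension_isStableUnderBaseChange.{u} (n := 1)
  let π := PicF.XTproj f T
  let K := T.left.residueField t
  have hsq : IsPullback (π.fiberι t) (π.fiber t ↘ Spec (CommRingCat.of K)) π (T.left.fromSpecResidueField t) :=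
    IsPullback.of_hasPullback π (T.left.fromSpecResidueField t)
  haveI : IsProper (π.fiber t ↘ Spec (CommRingCat.of K)) := MorphismProperty.of_isPullback hsq inferInstance
  haveI : SmoothOfRelativeDimension 1 (π.fiber t ↘ Spec (CommRingCat.of K)) :=
    MorphismProperty.of_isPullback hsq inferInstance
  haveI : GeometricallyConnected (π.fiber t ↘ Spec (CommRingCat.of K)) :=
    MorphismProperty.of_isPullback hsq inferInstance
  obtain ⟨h1, h2⟩ := curve_facts K (π.fiber t)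
  exact ⟨h1, h2.le⟩

/-- The genus is that of every fibre of a family. -/
theorem exists_genus_curve (hX : Curve.IsSmoothProperCurve k X f) :
    ∃ γ : ℕ, (∀ (T : Over (Spec (CommRingCat.of k))) (t : T.left),
      CohIII.fiberRank (PicF.XTproj f T) (Coh.structureModule _) 0 t = 1 ∧
        CohIII.fiberRank (PicF.XTproj f T) (Coh.structureModule _) 1 t = γ) ∧
      γ = (letI : X.Over (Spec (CommRingCat.of k)) := ⟨f⟩
        Module.finrank k (Coh.HH X (Coh.structureModule X) 1)) := by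
  letI : X.Over (Spec (CommRingCat.of k)) := ⟨f⟩
  haveI : IsProper (X ↘ Spec (CommRingCat.of k)) := ‹IsProper f›
  haveI : Smooth f := SmoothOfRelativeDimension.smooth 1 f
  let pt := IsLocalRing.closedPoint k
  have hO : PicF.IsInvertible (Coh.structureModule X) := H11Ample.isInvertible_structureModule (X := X)
  have hp := fun T => isProper_XTproj f T
  have key : ∀ (T : Over (Spec (CommRingCat.of k))) (t : T.left) (p : ℕ),
      CohIII.fiberRank (PicF.XTproj f T) (Coh.structureModule _) p t =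
      Module.finrank k (Coh.HH X (Coh.structureModule X) p) := by
    intro T t p
    haveI := hp T
    have h1 := fiberRank_pullback f hO (π' := PicF.XTproj f T) (IsPullback.of_hasPullback f T.hom) p t
    have h2 := finrank_HH_point f hO (K := k) (Y' := X) (𝟙 _) (g' := 𝟙 X)
      (show IsPullback (𝟙 X) f f (𝟙 _) from IsPullback.of_horiz_isIso ⟨by simp⟩) p
    rw [Subsingleton.elim (α := PrimeSpectrum k) ((𝟙 (Spec (CommRingCat.of k)) : _ ⟶ _) pt) (T.hom t)] at h2
    rw [(H29RR.hhIso (k := k) ((Scheme.Modules.pullbackId X).app _) p).finrank_eq] at h2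
    refine Eq.trans ?_ h2.symm
    rw [← h1]
    exact (H29RR.hhIso (k := T.left.residueField t) ((Scheme.Modules.pullback _).mapIso
      (H16Derived.KFlat.Stalk.structurePullbackIso (pullback.fst f T.hom)).symm) p).finrank_eq
  refine ⟨_, fun T t => ⟨?_, key T t 1⟩, rfl⟩
  obtain ⟨_, _, _⟩ := family_facts f T
  exact fiberRank_structure_zero (PicF.XTproj f T) t

variable {σ : Spec (CommRingCat.of k) ⟶ X}

/-- The classes good on every fibre are parametrised by an open part of the Hilbert scheme of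
divisors of degree the genus. -/
theorem exists_good_family (hX : Curve.IsSmoothProperCurve k X f) (hσ : σ ≫ f = 𝟙 _) :
    ∃ (γ : ℕ) (H : Over (Spec (CommRingCat.of k))) (Z : HilbD.Obj f γ H) (G : H.left.Opens)
      (cH : PicF.Rig f σ hσ H) (hI : BlowUp.IsEffCartierIdeal Z.1),
      HilbD.IsUniversal f γ H Z ∧ IsProper H.hom ∧ Smooth H.hom ∧
      γ = (letI : X.Over (Spec (CommRingCat.of k)) := ⟨f⟩
        Module.finrank k (Coh.HH X (Coh.structureModule X) 1)) ∧
      (cH.1 : Cls (PicF.XT f H)) = (H29Ell.norm f σ hσ H (H25Jac.idU Z.1 hI)⁻¹).1 ∧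
      (∀ (T : Over (Spec (CommRingCat.of k))) (c : PicF.Rig f σ hσ T) (L : (PicF.XT f T).Modules),
        PicF.IsInvertible L → PicF.cl L = c.1 →
        ((∃ g : T ⟶ H, Set.range g.left ⊆ (G : Set H.left) ∧ rigPull f hσ g cH = c) ↔ IsGood (PicF.XTproj f T) L)) ∧
      ∀ (T : Over (Spec (CommRingCat.of k))) (g₁ g₂ : T ⟶ H), Set.range g₁.left ⊆ (G : Set H.left) →
        Set.range g₂.left ⊆ (G : Set H.left) → rigPull f hσ g₁ cH = rigPull f hσ g₂ cH → g₁ = g₂ := by
  haveI := hX.1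
  have ha := fun T U => H25Jac.isIso_app_curve f T U
  have hp := fun T => isProper_XTproj f T
  have hs := fun T => (family_facts f T).2.1
  have hs' : ∀ T, Smooth (PicF.XTproj f T) := fun T => haveI := hs T; SmoothOfRelativeDimension.smooth 1 _
  obtain ⟨γ, hγ, hγX⟩ := exists_genus_curve f hX
  obtain ⟨H, Z, hZ, hHp, hHs⟩ := H27CurveDiv.exists_proper_smooth f hX γ
  let πH := PicF.XTproj f H
  haveI := hp H; haveI := hs H; haveI := hs' H
  obtain ⟨⟨hfin, hfl, hlfp⟩, -⟩ := id Z.2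
  haveI := hfin; haveI := hfl; haveI := hlfp
  have hI : BlowUp.IsEffCartierIdeal Z.1 :=
    ((H27CurveDiv.cartier_iff πH Z.1).2 ⟨inferInstance, hfl, hlfp⟩).1
  obtain ⟨M, hM, ⟨eM⟩⟩ := H11Sym.exists_inverse (H29Blow.isInvertible_of_isEffCartierIdeal _ hI)
  obtain ⟨M', hM'i, ⟨rM'⟩, hM', hM'n⟩ := exists_rigidified_norm f hσ hM
  let cH : PicF.Rig f σ hσ H := ⟨PicF.cl M', ⟨_, rfl, hM'i⟩, Quot.sound ⟨rM'⟩⟩
  let G := goodLocus πH hM'i
  let W := AbDual.ovr H G.ι
  let j : W ⟶ H := AbDual.ovrHom H G.ι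
  let u₀ := rigPull f hσ j cH
  haveI : IsOpenImmersion j.left := inferInstanceAs (IsOpenImmersion G.ι)
  have hgood : ∀ {T : Over (Spec (CommRingCat.of k))} (g : T ⟶ H) (L : (PicF.XT f T).Modules),
      PicF.cl L = (rigPull f hσ g cH).1 → (IsGood (PicF.XTproj f T) L ↔ Set.range g.left ⊆ (G : Set H.left)) := by
    intro T g L hL
    obtain ⟨e⟩ := Sep.iso_of_cl_eq (L' := pb (PicF.XTmap f g) M') hL
    haveI := hp T
    rw [← isGood_pullback_iff πH hM'i (H27HilbOps.isPullback_XTmap f g)]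
    exact forall_congr' fun t => by
      have hr : ∀ p, CohIII.fiberRank (PicF.XTproj f T) L p t =
          CohIII.fiberRank (PicF.XTproj f T) (pb (PicF.XTmap f g) M') p t := fun p =>
        (H29RR.hhIso (k := T.left.residueField t) ((Scheme.Modules.pullback _).mapIso e) p).finrank_eq
      rw [hr 0, hr 1]
  have hrange : ∀ {T : Over (Spec (CommRingCat.of k))} (h : T ⟶ W), Set.range (h ≫ j).left ⊆ (G : Set H.left) := by
    rintro T h _ ⟨x, rfl⟩
    exact (h.left x).2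
  have hcart : ∀ {T : Over (Spec (CommRingCat.of k))} (g : T ⟶ H),
      BlowUp.IsEffCartierIdeal (Z.1.comap (PicF.XTmap f g)) ∧
        ∀ t, BlowUp.IsEffCartierIdeal ((Z.1.comap (PicF.XTmap f g)).comap ((PicF.XTproj f T).fiberι t)) := by
    intro T g
    refine ⟨H13Cartier.isEffCartierIdeal_comap_of_relative (H27HilbOps.isPullback_XTmap f g) hI, fun t => ?_⟩
    rw [← Scheme.IdealSheafData.comap_comp]
    exact H13Cartier.isEffCartierIdeal_comap_of_relative
      ((IsPullback.of_hasPullback (PicF.XTproj f T) (T.left.fromSpecResidueField t)).paste_horiz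
        (H27HilbOps.isPullback_XTmap f g)) hI
  have hobj : ∀ {T : Over (Spec (CommRingCat.of k))} (g : T ⟶ H),
      Mor2.IsFinLocFreeOfDeg γ ((Z.1.comap (PicF.XTmap f g)).subschemeι ≫ PicF.XTproj f T) := fun g =>
    H27CurveDiv.divOfDeg_comap (H27HilbOps.isPullback_XTmap f g) Z.2
  have hinj : ∀ T, Function.Injective fun h : T ⟶ W => rigPull f hσ h u₀ := by
    intro T h₁ h₂ heq
    replace heq : rigPull f hσ (h₁ ≫ j) cH = rigPull f hσ (h₂ ≫ j) cH := by
      rw [← rigPull_comp, ← rigPull_comp]; exact heq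
    ext
    rw [← cancel_mono j.left, ← Over.comp_left, ← Over.comp_left]
    have hU : ∀ t : T.left, ∃ U : T.left.Opens, t ∈ U ∧
        Nonempty (pb U.ι (pb (h₁ ≫ j).left (pb (PicF.secT f σ hσ H) M)) ≅ Coh.structureModule U) ∧
        Nonempty (pb U.ι (pb (h₂ ≫ j).left (pb (PicF.secT f σ hσ H) M)) ≅ Coh.structureModule U) := by
      intro t
      have hi := fun h : T ⟶ W =>
        H11Ample.isInvertible_pullback (h ≫ j).left (H11Ample.isInvertible_pullback (PicF.secT f σ hσ H) hM)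
      obtain ⟨U₁, h₁', ⟨e₁⟩⟩ := exists_trivialising_open (hi h₁) t
      obtain ⟨U₂, h₂', ⟨e₂⟩⟩ := exists_trivialising_open (hi h₂) t
      refine ⟨U₁ ⊓ U₂, ⟨h₁', h₂'⟩, ⟨(pC _ _ (T.left.homOfLE_ι inf_le_left) _).symm ≪≫ ?_⟩,
        ⟨(pC _ _ (T.left.homOfLE_ι inf_le_right) _).symm ≪≫ ?_⟩⟩
      · exact (Scheme.Modules.pullback _).mapIso e₁ ≪≫ pO _
      · exact (Scheme.Modules.pullback _).mapIso e₂ ≪≫ pO _
    choose U hxU e₁ e₂ using hU
    refine Scheme.Cover.hom_ext (T.left.openCoverOfIsOpenCover U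
      (eq_top_iff.2 fun x _ => TopologicalSpace.Opens.mem_iSup.2 ⟨x, hxU x⟩)) _ _ fun t => ?_
    let q := AbDual.ovrHom T (U t).ι
    let g₁ := q ≫ h₁ ≫ j
    let g₂ := q ≫ h₂ ≫ j
    have hcl : rigPull f hσ g₁ cH = rigPull f hσ g₂ cH :=
      (rigPull_comp f hσ q (h₁ ≫ j) cH).symm.trans
        ((congrArg (rigPull f hσ q) heq).trans (rigPull_comp f hσ q (h₂ ≫ j) cH))
    obtain ⟨a₁⟩ := nonempty_iso_of_trivialised f hσ hM' g₁
      ⟨(pC _ _ rfl _).symm ≪≫ (e₁ t).some⟩
    obtain ⟨a₂⟩ := nonempty_iso_of_trivialised f hσ hM' g₂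
      ⟨(pC _ _ rfl _).symm ≪≫ (e₂ t).some⟩
    obtain ⟨e⟩ := Sep.iso_of_cl_eq (L := pb (PicF.XTmap f g₁) M') (L' := pb (PicF.XTmap f g₂) M')
      (congrArg Subtype.val hcl)
    haveI := hp (AbDual.ovr T (U t).ι); haveI := hs' (AbDual.ovr T (U t).ι)
    have hg : IsGood (PicF.XTproj f (AbDual.ovr T (U t).ι)) (pb (PicF.XTmap f g₁) M') :=
      (hgood g₁ _ rfl).2 (by rw [show g₁ = (q ≫ h₁) ≫ j from (Category.assoc _ _ _).symm]; exact hrange _)
    obtain ⟨b₁⟩ := nonempty_inverse_pullback f g₁ hI (hcart g₁).1 eM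
    obtain ⟨b₂⟩ := nonempty_inverse_pullback f g₂ hI (hcart g₂).1 eM
    have hdiv := divisor_unique (PicF.XTproj f (AbDual.ovr T (U t).ι)) (H11Ample.isInvertible_pullback _ hM'i)
      (fun s => (fibre_curve f _ s).1) hg (hcart g₁).1 (hcart g₂).1 (hcart g₁).2 (hcart g₂).2
      (tI (Iso.refl _) a₁ ≪≫ b₁) (tI (Iso.refl _) (e ≪≫ a₂) ≪≫ b₂)
    have hg12 : g₁ = g₂ := (hZ _ ⟨_, hobj g₁⟩).unique (H27HilbOne.pull_eq_comap f g₁ Z.1)
      ((H27HilbOne.pull_eq_comap f g₂ Z.1).trans hdiv.symm)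
    exact congrArg CommaMorphism.left hg12
  have hloc : ∀ (T : Over (Spec (CommRingCat.of k))) (c : PicF.Rig f σ hσ T) (L : (PicF.XT f T).Modules),
      PicF.IsInvertible L → PicF.cl L = c.1 → IsGood (PicF.XTproj f T) L → ∀ t : T.left,
      ∃ (T' : Over (Spec (CommRingCat.of k))) (p : T' ⟶ T) (h : T' ⟶ W), IsOpenImmersion p.left ∧
        t ∈ Set.range p.left ∧ rigPull f hσ h u₀ = rigPull f hσ p c := by
    intro T c L hL hLc hg t
    let π := PicF.XTproj f T
    haveI := hp T; haveI := hs' T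
    obtain ⟨V, hV, htV, he, -⟩ := exists_nhd_of_fiberRank_one_eq_zero π hL (hg t).2
    obtain ⟨hex, -⟩ := good_sections π (fun s => (fibre_curve f T s).1) hL hg hV he
    obtain ⟨m, y, hy, hyt⟩ := hex t htV
    let U₀ : T.left.Opens := ⟨π '' genAt L m ∩ V, (π.isOpenMap _ (isOpen_genAt hL m)).inter V.2⟩
    let T₁ := AbDual.ovr T U₀.ι
    let q : T₁ ⟶ T := AbDual.ovrHom T U₀.ι
    let g' := PicF.XTmap f q
    let π' := PicF.XTproj f T₁
    haveI := hp T₁; haveI := hs T₁; haveI := hs' T₁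
    have hsq : IsPullback g' π' π U₀.ι := H27HilbOps.isPullback_XTmap f q
    have hle : (⊤ : (PicF.XT f T₁).Opens) ≤ g' ⁻¹ᵁ (π ⁻¹ᵁ V) := fun z _ => by
      show π (g' z) ∈ V
      rw [← Scheme.Hom.comp_apply, hsq.w, Scheme.Hom.comp_apply]
      exact (π' z).2.2
    let L' := pb g' L
    have hL' : PicF.IsInvertible L' := H11Ample.isInvertible_pullback g' hL
    let m' : Γ(L', ⊤) := L'.presheaf.map (homOfLE hle).op (OmegaSh.pullSect g' L (π ⁻¹ᵁ V) m)
    have hm' : ∀ s : T₁.left, ∃ z, π' z = s ∧ zeroGerm L' (H11Tilde.homOfGlobal L' m') z = ⊤ := by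
      intro s
      obtain ⟨⟨x, hx, hxs⟩, -⟩ := s.2
      obtain ⟨z, hz, hzs⟩ := Scheme.exists_preimage_of_isPullback hsq x s hxs
      refine ⟨z, hzs, zeroGerm_homOfGlobal_eq_top m' ⟨trivial, ?_⟩⟩
      have hb := bijective_germ_pullSect g' hL m z (hz.symm ▸ hx)
      rw [TopCat.Presheaf.germ_res_apply]
      exact hb
    obtain ⟨J, hJd, ⟨eJ⟩⟩ := exists_divisor_of_section π' hL' (fun s => (fibre_curve f T₁ s).1)
      (fun s => (fibre_curve f T₁ s).2) γ (hγ T₁) (hg.pullback π hL hsq) _ hm'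
    obtain ⟨g, hgJ, -⟩ := hZ T₁ ⟨J, hJd⟩
    rw [H27HilbOne.pull_eq_comap] at hgJ
    obtain ⟨b⟩ := nonempty_inverse_pullback f g hI (hcart g).1 eM
    change Z.1.comap (PicF.XTmap f g) = J at hgJ
    rw [hgJ] at b
    obtain ⟨e'⟩ := H25Theta.cancel_right (A := pb (PicF.XTmap f g) M) (B := L')
      (C := ClSub.idealMod J) (hgJ ▸ H29Blow.isInvertible_of_isEffCartierIdeal _ (hcart g).1)
      ⟨H10Coh.Tw.commIso _ _ ≪≫ b ≪≫ eJ.symm ≪≫ H10Coh.Tw.commIso _ _⟩
    let t₁ : T₁.left := ⟨t, ⟨y, hy, hyt⟩, htV⟩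
    obtain ⟨U, htU, ⟨eU⟩⟩ := exists_trivialising_open
      (H11Ample.isInvertible_pullback g.left (H11Ample.isInvertible_pullback (PicF.secT f σ hσ H) hM)) t₁
    let T₂ := AbDual.ovr T₁ U.ι
    let q₂ : T₂ ⟶ T₁ := AbDual.ovrHom T₁ U.ι
    obtain ⟨a⟩ := nonempty_iso_of_trivialised f hσ hM' (q₂ ≫ g)
      ⟨(pC _ _ rfl _).symm ≪≫ eU⟩
    have hcl : rigPull f hσ (q₂ ≫ g) cH = rigPull f hσ (q₂ ≫ q) c := by
      rw [← rigPull_comp (a := q₂) (b := q)]
      refine Subtype.ext ?_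
      show PicF.pullCl _ (PicF.cl M') = PicF.pullCl _ (PicF.pullCl _ c.1)
      rw [← hLc]
      refine Quot.sound ⟨a ≪≫ ((Scheme.Modules.pullbackCongr (H27HilbOps.XTmap_comp f q₂ g)).app M) ≪≫
        ((Scheme.Modules.pullbackComp _ _).app M).symm ≪≫ (Scheme.Modules.pullback _).mapIso e'⟩
    haveI := hp T₂
    have hg₂ : IsGood (PicF.XTproj f T₂) (pb (PicF.XTmap f (q₂ ≫ q)) L) :=
      hg.pullback π hL (H27HilbOps.isPullback_XTmap f (q₂ ≫ q))
    have hrg := (hgood (q₂ ≫ g) (pb (PicF.XTmap f (q₂ ≫ q)) L) (by rw [hcl]; show _ = PicF.pullCl _ c.1; rw [← hLc]; rfl)).1 hg₂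
    let hleft : T₂.left ⟶ W.left := IsOpenImmersion.lift G.ι (q₂ ≫ g).left (by rw [Scheme.Opens.range_ι]; exact hrg)
    let h : T₂ ⟶ W := Over.homMk hleft (by
      show hleft ≫ G.ι ≫ H.hom = _
      rw [← Category.assoc, IsOpenImmersion.lift_fac]
      exact Over.w (q₂ ≫ g))
    have hh : h ≫ j = q₂ ≫ g := Over.OverMorphism.ext (IsOpenImmersion.lift_fac _ _ _)
    refine ⟨T₂, q₂ ≫ q, h, ?_, ?_, ?_⟩
    · rw [Over.comp_left]
      exact inferInstanceAs (IsOpenImmersion (U.ι ≫ U₀.ι))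
    · exact ⟨⟨t₁, htU⟩, rfl⟩
    · rw [← hcl, ← hh, ← rigPull_comp]
  refine ⟨γ, H, Z, G, cH, hI, hZ, hHp, hHs, hγX, ?_, fun T c L hL hLc => ⟨?_, fun hg => ?_⟩,
    fun T g₁ g₂ h₁ h₂ he => ?_⟩
  · show cls M' = _
    rw [hM'n]
    refine congrArg (fun w : (Cls (PicF.XT f H))ˣ => (H29Ell.norm f σ hσ H w).1) ?_
    exact (inv_eq_of_mul_eq_one_left (Units.ext (Quot.sound ⟨eM⟩))).symm
  · rintro ⟨g, hg, rfl⟩
    exact (hgood g L hLc).2 hg
  · choose T' p h hpo hpr hp' using hloc T c L hL hLc hg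
    let 𝒰 : T.left.OpenCover := Scheme.Cover.mkOfCovers T.left (fun t => (T' t).left) (fun t => (p t).left)
      (fun x => ⟨x, hpr x⟩) (fun t => hpo t)
    let hl : T.left ⟶ W.left := Scheme.Cover.glueMorphisms 𝒰 (fun t => (h t).left) fun a b => by
      let Z' : Over (Spec (CommRingCat.of k)) := Over.mk (pullback.fst (p a).left (p b).left ≫ (T' a).hom)
      let i₁ : Z' ⟶ T' a := Over.homMk (pullback.fst _ _) rfl
      let i₂ : Z' ⟶ T' b := Over.homMk (pullback.snd _ _) (by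
        show pullback.snd _ _ ≫ (T' b).hom = pullback.fst _ _ ≫ (T' a).hom
        rw [← Over.w (p a), ← Over.w (p b), pullback.condition_assoc])
      have hi : i₁ ≫ p a = i₂ ≫ p b := Over.OverMorphism.ext pullback.condition
      have := hinj Z' (a₁ := i₁ ≫ h a) (a₂ := i₂ ≫ h b) (by
        show rigPull f hσ (i₁ ≫ h a) u₀ = rigPull f hσ (i₂ ≫ h b) u₀
        rw [← rigPull_comp, ← rigPull_comp, hp', hp', rigPull_comp, rigPull_comp, hi])
      exact congrArg CommaMorphism.left this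
    have hfac : ∀ t, (p t).left ≫ hl = (h t).left := fun t => Scheme.Cover.ι_glueMorphisms 𝒰 _ _ t
    let hh : T ⟶ W := Over.homMk hl (by
      refine Scheme.Cover.hom_ext 𝒰 _ _ fun t => ?_
      show (p t).left ≫ hl ≫ W.hom = (p t).left ≫ T.hom
      rw [← Category.assoc, hfac, Over.w, Over.w])
    refine ⟨hh ≫ j, hrange hh, (rigPull_comp f hσ hh j cH).symm.trans
      (rig_ext_of_cover f hσ ha T T' p hpo (fun x => ⟨x, hpr x⟩) _ _ fun t => ?_)⟩
    rw [rigPull_comp, show p t ≫ hh = h t from Over.OverMorphism.ext (hfac t), hp']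
  · let l : ∀ (g : T ⟶ H), Set.range g.left ⊆ (G : Set H.left) → (T ⟶ W) := fun g hg =>
      Over.homMk (IsOpenImmersion.lift G.ι g.left (by rw [Scheme.Opens.range_ι]; exact hg)) (by
        show IsOpenImmersion.lift _ _ _ ≫ G.ι ≫ H.hom = _
        rw [IsOpenImmersion.lift_fac_assoc]
        exact Over.w g)
    have hl : ∀ g hg, l g hg ≫ j = g := fun g hg => Over.OverMorphism.ext (IsOpenImmersion.lift_fac _ _ _)
    have := hinj T (a₁ := l g₁ h₁) (a₂ := l g₂ h₂) (by
      show rigPull f hσ _ (rigPull f hσ j cH) = rigPull f hσ _ (rigPull f hσ j cH)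
      rw [rigPull_comp, rigPull_comp, hl g₁ h₁, hl g₂ h₂, he])
    rw [← hl g₁ h₁, this, hl g₂ h₂]

end Groth.Agent.H25Jac
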