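import Groth.Agent.H29GenusZero.Basic
import Groth.Agent.H29RR.GenPoint
import Groth.Agent.H29RR.Choice
import Groth.Agent.H29RR.Invert
import Groth.Agent.H29CurveDual.Canonical
import Groth.Agent.H29DoubleCover.Connected
import Groth.Agent.H19Grp.PointsDense
import Groth.Agent.H19Grp.RegularSmooth
import Groth.Prelude.Def_FGA

/-!
# The drop of `h⁰` and `h¹` under twisting by a rational point
-/

set_option autoImplicit false
set_option linter.style.haveILetI false
set_option linter.unusedSectionVars false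
set_option maxHeartbeats 1000000
universe u

open CategoryTheory CategoryTheory.Limits AlgebraicGeometry TopologicalSpace Opposite
open Groth.Agent.H29RR

namespace Groth.Agent.H25Jac

attribute [local instance 10000] H10Coh.hasSheafifyAb H10Coh.hasWeakSheafifyAb H10Coh.hasExtAb H10Coh.enoughInjAb
attribute [local instance] Curv2.resAlgebra

variable {k : Type u} [Field k] {X : Scheme.{u}} [X.Over (Spec (CommRingCat.of k))]
  [IsProper (X ↘ Spec (CommRingCat.of k))] [Smooth (X ↘ Spec (CommRingCat.of k))] [IsIntegral X]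

/-- Twisting by the ideal of a rational point: `h⁰` drops exactly at the points where sections generate. -/
theorem h0_point (hdim : topologicalKrullDim X = 1) (σ : Spec (CommRingCat.of k) ⟶ X)
    (hσ : σ ≫ (X ↘ Spec (CommRingCat.of k)) = 𝟙 _) :
    PicF.IsInvertible (ClSub.idealMod σ.ker) ∧ ∀ {W : X.Modules}, PicF.IsInvertible W →
      ((∀ p, ∃ g : Γ(W, ⊤), σ p ∈ H11Ample.gen W g) →
        Module.finrank k (Coh.HH X (CohB1.tensorMod (ClSub.idealMod σ.ker) W) 0) + 1 =
          Module.finrank k (Coh.HH X W 0)) ∧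
      ((∀ p, ¬ ∃ g : Γ(W, ⊤), σ p ∈ H11Ample.gen W g) →
        Module.finrank k (Coh.HH X (CohB1.tensorMod (ClSub.idealMod σ.ker) W) 0) =
          Module.finrank k (Coh.HH X W 0)) := by
  haveI := isNoetherian_of_proper (k := k) (X := X)
  obtain ⟨x, hx, hres, hker, hpt⟩ := H29GenusZero.section_point σ hσ
  rw [hker]
  haveI := H19Grp.isRegularLocalRing_stalk_of_smooth (X ↘ Spec (CommRingCat.of k)) x
  have hI := isInvertible_pt_of_regular (k := k) hdim hx
  have hIc := H29CurveDual.isCoh_of_isInvertible hI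
  refine ⟨hI, fun {W} hW => ⟨fun h => (h0_add_one_iff (k := k) hx hres hW hIc).2 ?_, fun h => ?_⟩⟩
  · obtain ⟨g, hg⟩ := h (IsLocalRing.closedPoint k)
    exact ⟨g, hpt _ ▸ hg⟩
  · obtain ⟨h1, h2, -⟩ := twist_point (k := k) hx hW hIc
    rw [hres] at h2
    have h3 : ¬ (Module.finrank k (Coh.HH X (CohB1.tensorMod (ClSub.idealMod (ptIdeal x)) W) 0) + 1 =
        Module.finrank k (Coh.HH X W 0)) := fun e => by
      obtain ⟨g, hg⟩ := (h0_add_one_iff (k := k) hx hres hW hIc).1 e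
      exact h (IsLocalRing.closedPoint k) ⟨g, (hpt _).symm ▸ hg⟩
    omega

/-- The drop of `h¹` when a rational point is added. -/
theorem exists_open_h1_drop (hdim : topologicalKrullDim X = 1) {L : X.Modules} (hL : PicF.IsInvertible L)
    (hL1 : 0 < Module.finrank k (Coh.HH X L 1)) :
    ∃ U : X.Opens, (U : Set X).Nonempty ∧
      ∀ (σ : Spec (CommRingCat.of k) ⟶ X), σ ≫ (X ↘ Spec (CommRingCat.of k)) = 𝟙 _ → ∀ (M : X.Modules),
        PicF.IsInvertible M → Nonempty (CohB1.tensorMod M (ClSub.idealMod σ.ker) ≅ L) →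
        ((∀ p, σ p ∈ U) → Module.finrank k (Coh.HH X M 1) = Module.finrank k (Coh.HH X L 1) - 1) ∧
        ((∀ p, σ p ∉ U) → Module.finrank k (Coh.HH X M 1) = Module.finrank k (Coh.HH X L 1)) := by
  haveI := isNoetherian_of_proper (k := k) (X := X)
  obtain ⟨N, hN, ⟨e⟩⟩ := exists_inverse_comm hL
  have hΩ := H29CurveDual.isInvertible_omega_curve (k := k) (X := X) hdim
  let W := CohB1.tensorMod (Omega.sheaf (X ↘ Spec (CommRingCat.of k))) N
  have hW : PicF.IsInvertible W := H11Ample.isInvertible_tensor hΩ hN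
  have hLW := H29CurveDual.finrank_h1_invertible (k := k) hdim hL hN e
  refine ⟨⨆ g : Γ(W, ⊤), H11Ample.gen W g, ?_, fun σ hσ M hM ⟨eM⟩ => ?_⟩
  · haveI : Nontrivial (Coh.HH X W 0) := Module.nontrivial_of_finrank_pos (R := k) (hLW ▸ hL1)
    obtain ⟨g, hg⟩ := exists_global_ne_zero W inferInstance
    exact ⟨_, Opens.mem_iSup.2 ⟨g, genericPoint_mem_gen hW hg⟩⟩
  obtain ⟨hI, hdrop⟩ := h0_point (k := k) hdim σ hσ
  let I := ClSub.idealMod σ.ker
  have hMW := H29CurveDual.finrank_h1_invertible (k := k) hdim hM (H11Ample.isInvertible_tensor hI hN)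
    ((H10Coh.Tw.assoc M I N).symm ≪≫ PicGrp.tensorModIso eM (Iso.refl N) ≪≫ e)
  rw [H29CurveDual.finrank_h0_congr (k := k) ((H10Coh.Tw.assoc _ I N).symm ≪≫
    PicGrp.tensorModIso (H10Coh.Tw.commIso _ I) (Iso.refl N) ≪≫ H10Coh.Tw.assoc I _ N) 0] at hMW
  refine ⟨fun hU => ?_, fun hU => ?_⟩
  · have h := (hdrop hW).1 fun p => Opens.mem_iSup.1 (hU p)
    rw [hMW, hLW]
    exact (Nat.sub_eq_of_eq_add h.symm).symm
  · have h := (hdrop hW).2 fun p hg => hU p (Opens.mem_iSup.2 hg)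
    rw [hMW, hLW]
    exact h

omit [IsProper (X ↘ Spec (CommRingCat.of k))] [IsIntegral X] in
/-- Rational points are dense on a smooth scheme over a separably closed field. -/
theorem exists_point_mem [IsSepClosed k] [IsReduced X] (U : X.Opens) (hU : (U : Set X).Nonempty) :
    ∃ σ : Spec (CommRingCat.of k) ⟶ X, σ ≫ (X ↘ Spec (CommRingCat.of k)) = 𝟙 _ ∧ ∀ p, σ p ∈ U := by
  obtain ⟨x, hx⟩ := hU
  obtain ⟨V, hV, hxV, hVU⟩ := exists_isAffineOpen_mem_and_subset (U := U) hx
  haveI : Nonempty V := ⟨⟨x, hxV⟩⟩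
  let f := X ↘ Spec (CommRingCat.of k)
  let q : Spec Γ(X, V) ⟶ Spec (CommRingCat.of k) := hV.fromSpec ≫ f
  obtain ⟨φ, hφ⟩ : ∃ φ : CommRingCat.of k ⟶ Γ(X, V), Spec.map φ = q := ⟨Spec.preimage q, Spec.map_preimage q⟩
  letI : Algebra k Γ(X, V) := φ.hom.toAlgebra
  haveI : Algebra.Smooth k Γ(X, V) := by
    have h : Smooth (Spec.map φ) := hφ ▸ inferInstanceAs (Smooth (hV.fromSpec ≫ f))
    exact (HasRingHomProperty.Spec_iff (P := @Smooth)).1 h
  haveI : Nontrivial Γ(X, V) := inferInstance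
  obtain ⟨ψ, -⟩ : ∃ ψ : Γ(X, V) →ₐ[k] k, ψ 1 ≠ 0 := H19Grp.PointsDense.exists_algHom_ne_zero one_ne_zero
  refine ⟨Spec.map (CommRingCat.ofHom ψ.toRingHom) ≫ hV.fromSpec, ?_, fun p => hVU ?_⟩
  · rw [Category.assoc]
    change Spec.map _ ≫ q = _
    rw [← hφ, ← Spec.map_comp, ← Spec.map_id]
    congr 1
    ext r
    exact ψ.commutes r
  · rw [Scheme.Hom.comp_apply]
    exact hV.range_fromSpec.le ⟨_, rfl⟩

/-- Removing rational points from an invertible module with sections leaves one section. -/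
theorem exists_points_h0_one [IsSepClosed k] (hdim : topologicalKrullDim X = 1) (n : ℕ) :
    ∀ {L : X.Modules}, PicF.IsInvertible L → Module.finrank k (Coh.HH X L 0) = n + 1 →
    ∃ σ : Fin n → (Spec (CommRingCat.of k) ⟶ X), (∀ t, σ t ≫ (X ↘ Spec (CommRingCat.of k)) = 𝟙 _) ∧
      Module.finrank k (Coh.HH X (CohB1.tensorMod L (FGA.tensorList (List.ofFn fun t : Fin n =>
        ClSub.idealMod (σ t).ker))) 0) = 1 := by
  haveI := isNoetherian_of_proper (k := k) (X := X)
  induction n with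
  | zero =>
    intro L hL h
    refine ⟨Fin.elim0, fun t => t.elim0, ?_⟩
    rw [List.ofFn_zero]
    exact (H29CurveDual.finrank_h0_congr (k := k) (H10Coh.Tw.rightUnitIso L) 0).trans h
  | succ n ih =>
    intro L hL h
    haveI : Nontrivial (Coh.HH X L 0) := Module.nontrivial_of_finrank_pos (R := k) (by omega)
    obtain ⟨g, hg⟩ := exists_global_ne_zero L inferInstance
    obtain ⟨s, hs, hsU⟩ := exists_point_mem (k := k) (H11Ample.gen L g) ⟨_, genericPoint_mem_gen hL hg⟩
    obtain ⟨hI, hdrop⟩ := h0_point (k := k) hdim s hs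
    have h' := (hdrop hL).1 fun p => ⟨g, hsU p⟩
    obtain ⟨σ, hσ, hσ1⟩ := ih (H11Ample.isInvertible_tensor hI hL) (by omega)
    refine ⟨Fin.cons s σ, fun t => Fin.cases hs hσ t, ?_⟩
    rw [List.ofFn_succ]
    refine (H29CurveDual.finrank_h0_congr (k := k) ?_ 0).trans hσ1
    exact (H10Coh.Tw.assoc L _ _).symm ≪≫ PicGrp.tensorModIso (H10Coh.Tw.commIso L _) (Iso.refl _)

end Groth.Agent.H25Jac
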