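import Groth.Agent.H25Jac.Coarse

/-!
# The classifying map of the universal class makes a Jacobian
-/

set_option autoImplicit false
set_option linter.style.haveILetI false
set_option linter.unusedSectionVars false
set_option maxHeartbeats 1600000
set_option backward.isDefEq.respectTransparency.types false

noncomputable section

universe u

open CategoryTheory CategoryTheory.Limits AlgebraicGeometry Opposite MonoidalCategory CartesianMonoidalCategory MonObj

namespace Groth.Agent.H25Jac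

open Groth.Agent.H17.PullCl Groth.Agent.H12Pic Groth.Agent.H12Pic.PicCurve Groth.Agent.H12Pic.RigPoints
open Groth.Agent.H25Theta (Cls cls pull pullU unitCls pb)

variable {X S : Scheme.{u}} {f : X ⟶ S} {σ : S ⟶ X} {hσ : σ ≫ f = 𝟙 S}
  [IsProper f] [SmoothOfRelativeDimension 1 f] [GeometricallyConnected f] {J : Over S} [GrpObj J]

theorem JData.isJacobian_psi (D : JData f σ hσ J) : Jac.IsJacobian f ⊤ J D.psi := by
  obtain ⟨Lu, hxu, hLu, hpsi⟩ := D.exists_univMod
  -- a family agrees with the pullback of the universal one up to a twist from the base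
  have hfac : ∀ (T : Over S) (L : (PicF.XT f T).Modules) (hT : (⊤ : ObjectProperty (Over S)) T) hx,
      (ModFun.PicDeg f 0).r T (pb (PicF.XTmap f (D.psi.app T L hT hx)) Lu) L ∧
      (ModFun.PicDeg f 0).r T L (pb (PicF.XTmap f (D.psi.app T L hT hx)) Lu) := by
    intro T L hT hx
    let a := D.psi.app T L hT hx
    obtain ⟨hL, -⟩ := (ok_iff T L).1 hx
    have hA := H11Ample.isInvertible_pullback (PicF.XTmap f a) ((ok_iff J Lu).1 hxu).1
    have hs := H11Ample.isInvertible_pullback (PicF.secT f σ hσ T) hL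
    obtain ⟨Mi, hMi, ⟨eM⟩⟩ := H11Sym.exists_inverse hs
    have h1 : D.xU a = pullU (PicF.XTmap f a) (unitCls ((ok_iff J Lu).1 hxu).1) := by
      rw [hLu, D.xU_comp, Category.comp_id]
    rw [D.xU_psi, H29Ell.norm_apply, div_eq_iff_eq_mul] at h1
    have h2 : unitCls hA = unitCls hL * pullU (PicF.XTproj f T) (unitCls hMi) := by
      have he : unitCls hMi * unitCls hs = 1 := Units.ext (Quot.sound ⟨eM⟩)
      rw [eq_inv_of_mul_eq_one_left he, map_inv, h1, _root_.mul_assoc]
      rw [show pullU (PicF.secT f σ hσ T) (unitCls hL) = unitCls hs from Units.ext rfl, mul_inv_cancel, _root_.mul_one]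
      exact Units.ext rfl
    refine ⟨⟨_, hs, ⟨(Sep.iso_of_cl_eq (L := L) (L' := CohB1.tensorMod (pb (PicF.XTmap f a) Lu)
      (pb (PicF.XTproj f T) (pb (PicF.secT f σ hσ T) L))) (congrArg Units.val h1)).some⟩⟩, ⟨Mi, hMi,
        ⟨(Sep.iso_of_cl_eq (L := pb (PicF.XTmap f a) Lu) (L' := CohB1.tensorMod L (pb (PicF.XTproj f T) Mi))
          (congrArg Units.val h2)).some⟩⟩⟩
  refine ⟨⟨fun Ω _ _ t => trivial, fun N φ' => ?_, fun Ω _ _ t hP => ⟨fun g => ?_, fun x y hx hy h => ?_⟩⟩,
    fun T hT L M N hL hM hN ⟨e⟩ => ?_⟩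
  · refine ⟨φ'.app J Lu trivial hxu, fun T L hT hx => ?_, fun χ hχ => ?_⟩
    · exact ((φ'.resp _ L hT (ok_pull _ hxu) hx (hfac T L hT hx).1).symm).trans
        (φ'.natural (D.psi.app T L hT hx) Lu trivial hT hxu (ok_pull _ hxu))
    · rw [hχ J Lu trivial hxu, hpsi, Category.id_comp]
  · exact ⟨pb (PicF.XTmap f g) Lu, ok_pull g hxu, (D.psi.natural g Lu trivial hP hxu (ok_pull g hxu)).trans
      (by rw [hpsi, Category.comp_id])⟩
  · obtain ⟨Mx, hMx, ⟨ex⟩⟩ := (hfac _ x hP hx).2
    obtain ⟨My, hMy, ⟨ey⟩⟩ := (hfac _ y hP hy).1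
    refine ⟨CohB1.tensorMod My Mx, H11Ample.isInvertible_tensor hMy hMx, ?_⟩
    rw [h] at ex
    obtain ⟨hLx, -⟩ := (ok_iff _ x).1 hx
    obtain ⟨hLy, -⟩ := (ok_iff _ y).1 hy
    have hA := H11Ample.isInvertible_pullback (PicF.XTmap f (D.psi.app _ y hP hy)) ((ok_iff J Lu).1 hxu).1
    have ex' : unitCls hA = unitCls hLx * pullU (PicF.XTproj f (Over.mk t)) (unitCls hMx) := Units.ext (Quot.sound ⟨ex⟩)
    have ey' : unitCls hLy = unitCls hA * pullU (PicF.XTproj f (Over.mk t)) (unitCls hMy) := Units.ext (Quot.sound ⟨ey⟩)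
    rw [ex', _root_.mul_assoc, mul_comm (pullU _ (unitCls hMx)), ← map_mul] at ey'
    exact ⟨(Sep.iso_of_cl_eq (L := y) (L' := CohB1.tensorMod x (pb (PicF.XTproj f (Over.mk t)) (CohB1.tensorMod My Mx)))
      (congrArg Units.val ey')).some⟩
  · refine D.xU_injective ?_
    rw [D.xU_mul, D.xU_psi, D.xU_psi, D.xU_psi, ← map_mul]
    exact congrArg _ (Units.ext (Quot.sound ⟨e⟩))

end Groth.Agent.H25Jac
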