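import Groth.Agent.H25Jac.Functor
import Groth.Agent.H29Jac.Jacobian
import Groth.Agent.H12Pic.PicCurve.BaseChangePic
import Groth.Agent.H12Pic.FibreConst

/-!
# The degree zero classes over a separably closed extension of the base field
-/

set_option autoImplicit false
set_option linter.style.haveILetI false
set_option linter.unusedSectionVars false
set_option maxHeartbeats 1200000
set_option backward.isDefEq.respectTransparency.types false

noncomputable section

universe u

open CategoryTheory CategoryTheory.Limits AlgebraicGeometry Opposite MonoidalCategory CartesianMonoidalCategory MonObj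

namespace Groth.Agent.H25Jac

open Groth.Agent.H17.PullCl Groth.Agent.H12Pic Groth.Agent.H12Pic.PicCurve Groth.Agent.H12Pic.RigPoints
open Groth.Agent.H12Pic.PicCurve.BaseChangePic (down downHom toS)
open Groth.Agent.H25Theta (Cls cls pb)

attribute [local instance] fibreOverField

variable {X S : Scheme.{u}} (f : X ⟶ S) [IsProper f] [SmoothOfRelativeDimension 1 f] [GeometricallyConnected f]

/-- Functions on a family of curves are functions on the base. -/
theorem isIso_app_curve (T : Over S) (U : T.left.Opens) : IsIso ((PicF.XTproj f T).app U) := by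
  haveI : Smooth f := SmoothOfRelativeDimension.smooth 1 f
  haveI : GeometricallyIntegral f := geometricallyIntegral_curve f
  exact LeadBC.GenBC.isIso_app_of_fibres (pullback.snd f T.hom)
    (LeadBC.GenBC.isIso_appTop_fibre_baseChange f (IsPullback.of_hasPullback f T.hom)
      (H12Pic.isIso_appTop_fiber_of_geomIntegral f)) U

variable {f}

/-- The degree is unchanged along an isomorphism of families over a base change. -/
theorem degAt_iso {X' S' : Scheme.{u}} {f' : X' ⟶ S'} [IsProper f'] {T : Over S} {T' : Over S'}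
    (e : PicF.XT f' T' ⟶ PicF.XT f T) (b : T'.left ⟶ T.left)
    (hsq : IsPullback e (PicF.XTproj f' T') (PicF.XTproj f T) b)
    {L : (PicF.XT f T).Modules} (hL : PicF.IsInvertible L) (t : T'.left) :
    degAt f' T' (pb e L) t = degAt f T L (b t) := by
  haveI := isProper_XTproj f T
  haveI := isProper_XTproj f' T'
  rw [degAt, degAt, rankDiff_pullback _ hL hsq,
    ← rankDiff_pullback _ (H11Ample.isInvertible_structureModule (X := PicF.XT f T)) hsq,
    ← rankDiff_congr _ (H16Derived.KFlat.Stalk.structurePullbackIso e)]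

variable {σ : S ⟶ X} (hσ : σ ≫ f = 𝟙 S) {S' : Scheme.{u}} (g : S' ⟶ S)

/-- The section of the base change. -/
abbrev bcSec : S' ⟶ pullback f g :=
  pullback.lift (g ≫ σ) (𝟙 S') (by rw [Category.assoc, hσ, Category.comp_id, Category.id_comp])

theorem bcSec_snd : bcSec hσ g ≫ pullback.snd f g = 𝟙 S' := pullback.lift_snd _ _ _

theorem secT_bc (T : Over S') :
    PicF.secT (pullback.snd f g) (bcSec hσ g) (bcSec_snd hσ g) T ≫ (pullbackLeftPullbackSndIso f g T.hom).hom =
      PicF.secT f σ hσ (down g T) := by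
  unfold PicF.secT
  apply pullback.hom_ext
  · rw [Category.assoc]
    erw [pullbackLeftPullbackSndIso_hom_fst, pullback.lift_fst_assoc]
    rw [Category.assoc]
    erw [pullback.lift_fst, pullback.lift_fst]
    exact (Category.assoc _ _ _).symm
  · rw [Category.assoc]
    erw [pullbackLeftPullbackSndIso_hom_snd, pullback.lift_snd, pullback.lift_snd]
    rfl

/-- Rigidified classes of degree zero on the base change are those over the base. -/
theorem isDZ_bc_iff (T : Over S') (c : PicF.Cl (PicF.XT f (down g T))) :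
    IsDZ (pullback.snd f g) (bcSec hσ g) (bcSec_snd hσ g) T
        (PicF.pullCl (pullbackLeftPullbackSndIso f g T.hom).hom c) ↔
      IsDZ f σ hσ (down g T) c := by
  haveI := smoothOfRelativeDimension_isStableUnderBaseChange.{u} (n := 1)
  haveI : IsProper (pullback.snd f g) := MorphismProperty.pullback_snd _ _ ‹IsProper f›
  haveI : SmoothOfRelativeDimension 1 (pullback.snd f g) :=
    MorphismProperty.pullback_snd _ _ ‹SmoothOfRelativeDimension 1 f›
  haveI : GeometricallyConnected (pullback.snd f g) :=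
    MorphismProperty.pullback_snd _ _ ‹GeometricallyConnected f›
  let e := pullbackLeftPullbackSndIso f g T.hom
  have hinv : PicF.IsInvertibleCl (PicF.pullCl e.hom c) ↔ PicF.IsInvertibleCl c := by
    refine ⟨fun h => ?_, isInvertibleCl_pullCl _⟩
    have h' := isInvertibleCl_pullCl e.inv h
    rw [← pullCl_comp, e.inv_hom_id] at h'
    erw [pullCl_id] at h'
    exact h'
  have hsec : PicF.pullCl (PicF.secT (pullback.snd f g) (bcSec hσ g) (bcSec_snd hσ g) T) (PicF.pullCl e.hom c) =
      PicF.pullCl (PicF.secT f σ hσ (down g T)) c := by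
    rw [← pullCl_comp]
    erw [secT_bc hσ g T]
  have hsq : IsPullback e.hom (PicF.XTproj (pullback.snd f g) T) (PicF.XTproj f (down g T)) (𝟙 T.left) :=
    IsPullback.of_horiz_isIso ⟨(pullbackLeftPullbackSndIso_hom_snd f g T.hom).trans (Category.comp_id _).symm⟩
  constructor
  · rintro ⟨h1, h2, h3⟩
    refine ⟨hinv.1 h1, hsec ▸ h2, ?_⟩
    obtain ⟨L, rfl, hL⟩ := hinv.1 h1
    refine (hasFibreDegreeZeroCl_cl_iff f _).2 fun t => ?_
    rw [show t = (𝟙 T.left : T.left ⟶ T.left) t from rfl, ← degAt_iso (T := down g T) e.hom (𝟙 T.left) hsq hL]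
    exact (hasFibreDegreeZeroCl_cl_iff (pullback.snd f g) T (L := pb e.hom L)).1 h3 t
  · rintro ⟨h1, h2, h3⟩
    refine ⟨hinv.2 h1, hsec.symm ▸ h2, ?_⟩
    obtain ⟨L, rfl, hL⟩ := h1
    refine (hasFibreDegreeZeroCl_cl_iff (pullback.snd f g) T (L := pb e.hom L)).2 fun t => ?_
    rw [degAt_iso (T := down g T) e.hom (𝟙 T.left) hsq hL]
    exact (hasFibreDegreeZeroCl_cl_iff f _).1 h3 _

/-- A scheme representing the degree zero classes of the base change is universal over the base. -/
theorem rep_of_bc (A : Over S') (z₀ : PicF.Cl (PicF.XT (pullback.snd f g) A))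
    (hz : IsDZ (pullback.snd f g) (bcSec hσ g) (bcSec_snd hσ g) A z₀)
    (huniv : ∀ (T : Over S') (c : PicF.Cl (PicF.XT (pullback.snd f g) T)),
      IsDZ (pullback.snd f g) (bcSec hσ g) (bcSec_snd hσ g) T c →
        ∃! a : T ⟶ A, PicF.pullCl (PicF.XTmap (pullback.snd f g) a) z₀ = c) :
    Rep f σ hσ (Over.mk g) A (toS f g A z₀) := by
  have key : ∀ (T : Over S') (d : PicF.Cl (PicF.XT (pullback.snd f g) T)),
      PicF.pullCl (pullbackLeftPullbackSndIso f g T.hom).hom (toS f g T d) = d := fun T d => by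
    rw [toS, ← pullCl_comp, Iso.hom_inv_id]
    exact pullCl_id d
  refine ⟨(isDZ_bc_iff hσ g A _).1 (by rwa [key]), fun T r c hc => ?_⟩
  let TK : Over S' := Over.mk r.left
  let i : down g TK ⟶ T := Over.homMk (𝟙 T.left) ((Category.id_comp _).trans (Over.w r).symm)
  let i' : T ⟶ down g TK := Over.homMk (𝟙 T.left) ((Category.id_comp _).trans (Over.w r))
  let c' := PicF.pullCl (pullbackLeftPullbackSndIso f g TK.hom).hom (PicF.pullCl (PicF.XTmap f i) c)
  have hc' := (isDZ_bc_iff hσ g TK _).2 (hc.pull i)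
  obtain ⟨a, ha, huniq⟩ := huniv TK c' hc'
  have hii : i' ≫ i = 𝟙 T := Over.OverMorphism.ext (Category.id_comp _)
  have hpull : ∀ b : TK ⟶ A, PicF.pullCl (PicF.XTmap (pullback.snd f g) b) z₀ = c' ↔
      PicF.pullCl (PicF.XTmap f (i' ≫ downHom g b)) (toS f g A z₀) = c := fun b => by
    constructor
    · intro hb
      rw [XTmap_comp, pullCl_comp, ← BaseChangePic.toS_pullCl, hb]
      show PicF.pullCl _ (PicF.pullCl _ (PicF.pullCl (pullbackLeftPullbackSndIso f g TK.hom).hom _)) = c
      rw [← pullCl_comp (pullbackLeftPullbackSndIso f g TK.hom).inv, Iso.inv_hom_id]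
      erw [pullCl_id]
      rw [← pullCl_comp, ← XTmap_comp, hii, H27HilbOps.XTmap_id]
      exact pullCl_id c
    · intro hb
      show _ = PicF.pullCl _ (PicF.pullCl _ c)
      rw [← hb, ← pullCl_comp (PicF.XTmap f i), ← XTmap_comp, show i ≫ i' ≫ downHom g b = downHom g b from
        Over.OverMorphism.ext ((Category.id_comp _).trans (Category.id_comp _)), ← BaseChangePic.toS_pullCl, key]
  refine ⟨i' ≫ downHom g a, ⟨Over.OverMorphism.ext ((congrArg (· ≫ A.hom) (Category.id_comp a.left)).trans (Over.w a)),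
    (hpull a).1 ha⟩, fun b ⟨hbq, hbz⟩ => ?_⟩
  let b' : TK ⟶ A := Over.homMk b.left (congrArg CommaMorphism.left hbq)
  have hb' : b = i' ≫ downHom g b' := Over.OverMorphism.ext (Category.id_comp _).symm
  rw [hb'] at hbz ⊢
  rw [huniq b' ((hpull b').2 hbz)]

/-- The degree zero classes over a separably closed extension of the field are represented by a proper smooth
group scheme with geometrically connected fibre. -/
theorem exists_rep_sepClosed {k : Type u} [Field k] {X : Scheme.{u}} (f : X ⟶ Spec (CommRingCat.of k))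
    [IsProper f] [SmoothOfRelativeDimension 1 f] [GeometricallyConnected f]
    {σ : Spec (CommRingCat.of k) ⟶ X} (hσ : σ ≫ f = 𝟙 _)
    (K : Type u) [Field K] [IsSepClosed K] (g : Spec (CommRingCat.of K) ⟶ Spec (CommRingCat.of k)) :
    ∃ (A : Over (Spec (CommRingCat.of K))) (_ : GrpObj A) (z : PicF.Cl (PicF.XT f (dn (Over.mk g) A))),
      IsProper A.hom ∧ Smooth A.hom ∧ GeometricallyConnected A.hom ∧ Rep f σ hσ (Over.mk g) A z := by
  haveI := smoothOfRelativeDimension_isStableUnderBaseChange.{u} (n := 1)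
  let fK := pullback.snd f g
  let σK := bcSec hσ g
  have hσK : σK ≫ fK = 𝟙 _ := bcSec_snd hσ g
  haveI : IsProper fK := MorphismProperty.pullback_snd _ _ ‹IsProper f›
  haveI : SmoothOfRelativeDimension 1 fK := MorphismProperty.pullback_snd _ _ ‹SmoothOfRelativeDimension 1 f›
  haveI : GeometricallyConnected fK := MorphismProperty.pullback_snd _ _ ‹GeometricallyConnected f›
  letI : (pullback f g).Over (Spec (CommRingCat.of K)) := ⟨fK⟩
  haveI : IsProper (pullback f g ↘ Spec (CommRingCat.of K)) := ‹IsProper fK›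
  haveI : SmoothOfRelativeDimension 1 (pullback f g ↘ Spec (CommRingCat.of K)) :=
    ‹SmoothOfRelativeDimension 1 fK›
  haveI : GeometricallyConnected (pullback f g ↘ Spec (CommRingCat.of K)) := ‹GeometricallyConnected fK›
  obtain ⟨hint, hdim⟩ := curve_facts K (pullback f g)
  have hX : Curve.IsSmoothProperCurve K (pullback f g) fK :=
    ⟨inferInstance, SmoothOfRelativeDimension.smooth 1 fK, hint, hdim⟩
  obtain ⟨P, ξ, huniv, hlfp⟩ := rigRepresentable_curve_lfp hX hσK
  haveI := hlfp
  haveI hlfp0 := H29Jac.locallyOfFinitePresentation_jac fK hσK huniv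
  letI := H29Jac.commGrpObj fK hσK huniv
  let A := H29Jac.jac fK hσK huniv
  have hd : ∀ s, topologicalKrullDim ↥(fK.fiber s) = 1 := fun s =>
    (((fK.fiberHomeo s).trans ((Homeomorph.setCongr (Set.eq_univ_of_forall
      fun x => Subsingleton.elim (α := PrimeSpectrum K) (fK x) s)).trans (Homeomorph.Set.univ _))).isHomeomorph.topologicalKrullDim_eq).trans hdim
  haveI : GeometricallyIntegral fK := geometricallyIntegral_curve fK
  haveI : Smooth P.hom := SmoothPic.smooth_pic fK (fun s => (hd s).le) P _ (H29Jac.isRelPicK fK hσK huniv)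
  haveI : IsSeparated P.hom := H12Pic.Sep.isSeparated fK (H29Jac.isRelPicK fK hσK huniv)
  obtain ⟨hjo, hjc⟩ := picZero_openClosed fK P _ (H29Jac.isRelPicK fK hσK huniv) A _
    (H29Jac.isRelPicZeroK fK hσK huniv) (H29Jac.incl fK hσK huniv)
    (fun T c hc => H29Jac.phi0_incl fK hσK huniv T c hc)
  haveI := hjo; haveI := hjc
  haveI hAs : Smooth A.hom := by rw [← Over.w (H29Jac.incl fK hσK huniv)]; infer_instance
  haveI : IsSeparated A.hom := by rw [← Over.w (H29Jac.incl fK hσK huniv)]; infer_instance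
  obtain ⟨hAp, hAc⟩ := picZero_proper_connected fK A _ (H29Jac.isRelPicZeroK fK hσK huniv)
  let u₀ := H29Jac.jElt fK hσK huniv (𝟙 A)
  refine ⟨A, inferInstance, toS f g A u₀.1.1, hAp, hAs, hAc,
    rep_of_bc hσ g A _ ((isDZ_iff_jSub fK σK hσK u₀.1).1 u₀.2) fun T c hc => ?_⟩
  let u : H29Ell.jSub fK σK hσK T :=
    ⟨H29Jac.unitOf hc.1, (isDZ_iff_jSub fK σK hσK _).2 (by rw [H29Jac.unitOf_val]; exact hc)⟩
  have hval : ∀ a : T ⟶ A, ((H29Jac.jElt fK hσK huniv a).1.1 : PicF.Cl (PicF.XT fK T)) =
      PicF.pullCl (PicF.XTmap fK a) u₀.1.1 := fun a => by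
    conv_lhs => rw [← Category.comp_id a, H29Jac.jElt_natural]
    rfl
  refine ⟨(H29Jac.jEquiv fK hσK huniv T).symm u, ?_, fun a ha => ?_⟩
  · show PicF.pullCl _ _ = c
    rw [← hval]
    exact congrArg (fun w : H29Ell.jSub fK σK hσK T => (w.1.1 : PicF.Cl (PicF.XT fK T)))
      ((H29Jac.jEquiv fK hσK huniv T).apply_symm_apply u)
  · refine ((H29Jac.jEquiv fK hσK huniv T).eq_symm_apply).2 (Subtype.ext (Units.ext ?_))
    exact (hval a).trans ha

end Groth.Agent.H25Jac
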